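import Mathlib
import Cfsg.Agent.Lib.HJType.Cube

/-!
An extraspecial subgroup of order `11 ^ 3` with three normalizing elements given by the exponents of their action:
the normalizer and the classes of elements of order eleven.
-/

set_option autoImplicit false
set_option linter.unusedSectionVars false

namespace CfsgLib.J4Eleven

open Subgroup

/-- Two generators of a nonabelian group of order `11 ^ 3` and exponent `11`, with their commutator. -/
structure Heis {G : Type*} [Group G] (a b c : G) : Prop where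
  a11 : a ^ 11 = 1
  b11 : b ^ 11 = 1
  c11 : c ^ 11 = 1
  c1 : c ≠ 1
  bac : b * a * c = a * b
  ac : a * c = c * a
  bc : b * c = c * b

/-- A monomial. -/
def mon {G : Type*} [Group G] (a b c : G) (t : ℕ × ℕ × ℕ) : G := a ^ t.1 * b ^ t.2.1 * c ^ t.2.2

/-- The exponents of `a` and `b`, modulo eleven. -/
noncomputable def pr {G : Type*} [Group G] (a b c g : G) : Fin 2 → ZMod 11 :=
  open Classical in
  if h : ∃ t, mon a b c t = g then ![((h.choose).1 : ZMod 11), ((h.choose).2.1 : ZMod 11)] else 0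

namespace Heis

variable {G : Type*} [Group G] {a b c : G} (H : Heis a b c)

include H

theorem orderOf_c : orderOf c = 11 := by
  haveI : Fact (Nat.Prime 11) := ⟨by norm_num⟩
  exact orderOf_eq_prime H.c11 H.c1

theorem ba : b * a = a * b * c ^ 10 := by
  rw [← H.bac, mul_assoc (b * a) c, ← pow_succ', H.c11, mul_one]

theorem b_pow_a : ∀ j : ℕ, b ^ j * a = a * b ^ j * c ^ (10 * j)
  | 0 => by simp
  | j + 1 => by
    have hb : Commute (b ^ j) (c ^ 10) := (show Commute b c from H.bc).pow_pow j 10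
    calc b ^ (j + 1) * a = b ^ j * (b * a) := by rw [pow_succ, mul_assoc]
      _ = b ^ j * a * b * c ^ 10 := by rw [H.ba]; group
      _ = a * b ^ j * (c ^ (10 * j) * b) * c ^ 10 := by rw [b_pow_a j]; group
      _ = a * b ^ j * (b * c ^ (10 * j)) * c ^ 10 := by
        rw [((show Commute b c from H.bc).pow_right (10 * j)).eq]
      _ = a * b ^ (j + 1) * c ^ (10 * (j + 1)) := by
        rw [pow_succ b, mul_add, pow_add c, mul_one]; group

theorem b_pow_a_pow (j : ℕ) : ∀ i : ℕ, b ^ j * a ^ i = a ^ i * b ^ j * c ^ (10 * (i * j))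
  | 0 => by simp
  | i + 1 => by
    calc b ^ j * a ^ (i + 1) = b ^ j * a ^ i * a := by rw [pow_succ, mul_assoc]
      _ = a ^ i * b ^ j * (c ^ (10 * (i * j)) * a) := by rw [b_pow_a_pow j i]; group
      _ = a ^ i * (b ^ j * a) * c ^ (10 * (i * j)) := by
        rw [← ((show Commute a c from H.ac).pow_right (10 * (i * j))).eq]; group
      _ = a ^ (i + 1) * b ^ j * c ^ (10 * ((i + 1) * j)) := by
        rw [H.b_pow_a, pow_succ a, show 10 * ((i + 1) * j) = 10 * j + 10 * (i * j) by ring, pow_add c]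
        group

theorem c_comm (k i j : ℕ) : Commute (c ^ k) (a ^ i * b ^ j) :=
  (((show Commute a c from H.ac).pow_pow i k).mul_left ((show Commute b c from H.bc).pow_pow j k)).symm

theorem mon_mul (s t : ℕ × ℕ × ℕ) :
    mon a b c s * mon a b c t = mon a b c (s.1 + t.1, s.2.1 + t.2.1, s.2.2 + t.2.2 + 10 * (t.1 * s.2.1)) := by
  simp only [mon]
  calc a ^ s.1 * b ^ s.2.1 * c ^ s.2.2 * (a ^ t.1 * b ^ t.2.1 * c ^ t.2.2)
      = a ^ s.1 * b ^ s.2.1 * (c ^ s.2.2 * (a ^ t.1 * b ^ t.2.1)) * c ^ t.2.2 := by group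
    _ = a ^ s.1 * (b ^ s.2.1 * a ^ t.1) * b ^ t.2.1 * c ^ s.2.2 * c ^ t.2.2 := by
      rw [(H.c_comm _ _ _).eq]; group
    _ = a ^ s.1 * a ^ t.1 * b ^ s.2.1 * (c ^ (10 * (t.1 * s.2.1)) * b ^ t.2.1) * c ^ s.2.2 * c ^ t.2.2 := by
      rw [H.b_pow_a_pow]; group
    _ = a ^ s.1 * a ^ t.1 * (b ^ s.2.1 * b ^ t.2.1) * (c ^ s.2.2 * c ^ t.2.2 * c ^ (10 * (t.1 * s.2.1))) := by
      rw [← ((show Commute b c from H.bc).pow_pow t.2.1 (10 * (t.1 * s.2.1))).eq]
      have h : Commute (c ^ (10 * (t.1 * s.2.1))) (c ^ s.2.2 * c ^ t.2.2) :=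
        ((Commute.refl c).pow_pow _ _).mul_right ((Commute.refl c).pow_pow _ _)
      rw [← h.eq]; group
    _ = _ := by rw [← pow_add, ← pow_add, ← pow_add, ← pow_add]

theorem pow11 (i : ℕ) : a ^ (11 * i) = 1 ∧ b ^ (11 * i) = 1 ∧ c ^ (11 * i) = 1 := by
  simp [pow_mul, H.a11, H.b11, H.c11]

theorem mon_eq {s t : ℕ × ℕ × ℕ} (h1 : (s.1 : ZMod 11) = t.1) (h2 : (s.2.1 : ZMod 11) = t.2.1)
    (h3 : (s.2.2 : ZMod 11) = t.2.2) : mon a b c s = mon a b c t := by
  have e : ∀ {g : G}, g ^ 11 = 1 → ∀ {i j : ℕ}, (i : ZMod 11) = j → g ^ i = g ^ j := fun {g} hg {i j} h => by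
    rw [pow_eq_pow_mod i hg, pow_eq_pow_mod j hg, (ZMod.natCast_eq_natCast_iff i j 11).1 h]
  rw [mon, mon, e H.a11 h1, e H.b11 h2, e H.c11 h3]

theorem mon_b (i j k : ℕ) : mon a b c (i, j, k) * b = b * mon a b c (i, j, k) * c ^ i := by
  have e1 : mon a b c (0, 1, 0) = b := by simp [mon]
  have e2 : mon a b c (0, 0, i) = c ^ i := by simp [mon]
  have l : mon a b c (i, j, k) * mon a b c (0, 1, 0) = mon a b c (0, 1, 0) * mon a b c (i, j, k) * mon a b c (0, 0, i) := by
    rw [H.mon_mul, H.mon_mul, H.mon_mul]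
    have h11 : (11 : ZMod 11) = 0 := rfl
    refine H.mon_eq ?_ ?_ ?_ <;> push_cast
    · ring
    · ring
    · linear_combination (-(i : ZMod 11)) * h11
  rwa [e1, e2] at l

theorem mon_a (i j k : ℕ) : mon a b c (i, j, k) * a = a * mon a b c (i, j, k) * c ^ (10 * j) := by
  have e1 : mon a b c (1, 0, 0) = a := by simp [mon]
  have e2 : mon a b c (0, 0, 10 * j) = c ^ (10 * j) := by simp [mon]
  have l : mon a b c (i, j, k) * mon a b c (1, 0, 0) =
      mon a b c (1, 0, 0) * mon a b c (i, j, k) * mon a b c (0, 0, 10 * j) := by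
    rw [H.mon_mul, H.mon_mul, H.mon_mul]
    refine H.mon_eq ?_ ?_ ?_ <;> push_cast <;> ring
  rwa [e1, e2] at l

theorem cast_of_pow_c {i j : ℕ} (h : c ^ i = c ^ j) : (i : ZMod 11) = j := by
  rw [pow_eq_pow_iff_modEq, H.orderOf_c] at h
  exact (ZMod.natCast_eq_natCast_iff i j 11).2 h

theorem mon_inj {s t : ℕ × ℕ × ℕ} (h : mon a b c s = mon a b c t) :
    (s.1 : ZMod 11) = t.1 ∧ (s.2.1 : ZMod 11) = t.2.1 ∧ (s.2.2 : ZMod 11) = t.2.2 := by
  obtain ⟨i, j, k⟩ := s
  obtain ⟨i', j', k'⟩ := t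
  have hi : (i : ZMod 11) = i' := H.cast_of_pow_c (mul_left_cancel
    ((H.mon_b i j k).symm.trans ((by rw [h] : mon a b c (i, j, k) * b = mon a b c (i', j', k') * b).trans
      ((H.mon_b i' j' k').trans (by rw [h])))))
  have hj : ((10 * j : ℕ) : ZMod 11) = (10 * j' : ℕ) := H.cast_of_pow_c (mul_left_cancel
    ((H.mon_a i j k).symm.trans ((by rw [h] : mon a b c (i, j, k) * a = mon a b c (i', j', k') * a).trans
      ((H.mon_a i' j' k').trans (by rw [h])))))
  have hj' : (j : ZMod 11) = j' := by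
    have h11 : (11 : ZMod 11) = 0 := rfl
    push_cast at hj
    linear_combination (-1 : ZMod 11) * hj + ((j : ZMod 11) - j') * h11
  refine ⟨hi, hj', H.cast_of_pow_c (mul_left_cancel (a := a ^ i * b ^ j) ?_)⟩
  have e := H.mon_eq (s := (i, j, k')) (t := (i', j', k')) hi hj' rfl
  show mon a b c (i, j, k) = mon a b c (i, j, k')
  rw [h, e]

/-- The subgroup of the monomials. -/
def U : Subgroup G where
  carrier := Set.range (mon a b c)
  one_mem' := ⟨(0, 0, 0), by simp [mon]⟩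
  mul_mem' := by
    rintro _ _ ⟨s, rfl⟩ ⟨t, rfl⟩
    exact ⟨_, (H.mon_mul s t).symm⟩
  inv_mem' := by
    rintro _ ⟨⟨i, j, k⟩, rfl⟩
    refine ⟨(10 * i, 10 * j, 10 * k + 10 * (i * j)), eq_inv_of_mul_eq_one_right ?_⟩
    rw [H.mon_mul]
    have h : mon a b c (0, 0, 0) = 1 := by simp [mon]
    rw [← h]
    have h11 : (11 : ZMod 11) = 0 := rfl
    refine H.mon_eq ?_ ?_ ?_ <;> push_cast
    · linear_combination (i : ZMod 11) * h11
    · linear_combination (j : ZMod 11) * h11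
    · linear_combination ((k : ZMod 11) + 10 * (i : ZMod 11) * j) * h11

theorem mem_U {g : G} : g ∈ H.U ↔ ∃ t, mon a b c t = g := Iff.rfl

theorem a_mem : a ∈ H.U := ⟨(1, 0, 0), by simp [mon]⟩

theorem b_mem : b ∈ H.U := ⟨(0, 1, 0), by simp [mon]⟩

theorem c_mem : c ∈ H.U := ⟨(0, 0, 1), by simp [mon]⟩

theorem card_U : Nat.card H.U = 1331 := by
  let φ : ZMod 11 × ZMod 11 × ZMod 11 → H.U := fun p => ⟨mon a b c (p.1.val, p.2.1.val, p.2.2.val), _, rfl⟩
  have hb : Function.Bijective φ := by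
    constructor
    · rintro ⟨i, j, k⟩ ⟨i', j', k'⟩ h
      obtain ⟨h1, h2, h3⟩ := H.mon_inj (congrArg Subtype.val h)
      simp only [ZMod.natCast_zmod_val] at h1 h2 h3
      rw [h1, h2, h3]
    · rintro ⟨_, ⟨t, rfl⟩⟩
      exact ⟨((t.1 : ZMod 11), (t.2.1 : ZMod 11), (t.2.2 : ZMod 11)), Subtype.ext
        (H.mon_eq (by simp) (by simp) (by simp))⟩
  rw [← Nat.card_congr (Equiv.ofBijective φ hb)]
  simp

theorem mon_pow (t : ℕ × ℕ × ℕ) : ∀ n : ℕ,
    mon a b c t ^ n = mon a b c (n * t.1, n * t.2.1, n * t.2.2 + 10 * (t.1 * t.2.1) * ∑ m ∈ Finset.range n, m)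
  | 0 => by simp [mon]
  | n + 1 => by
    rw [pow_succ, mon_pow t n, H.mon_mul, Finset.sum_range_succ]
    refine H.mon_eq ?_ ?_ ?_ <;> push_cast <;> ring

theorem pow_eleven {g : G} (hg : g ∈ H.U) : g ^ 11 = 1 := by
  obtain ⟨t, rfl⟩ := hg
  rw [H.mon_pow]
  have h : mon a b c (0, 0, 0) = 1 := by simp [mon]
  rw [← h]
  have h11 : (11 : ZMod 11) = 0 := rfl
  refine H.mon_eq ?_ ?_ ?_ <;> simp [h11, Finset.sum_range_succ, show (55 : ZMod 11) = 0 from rfl]

theorem exponent_U : Monoid.exponent H.U = 11 := by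
  haveI : Fact (Nat.Prime 11) := ⟨by norm_num⟩
  refine ((Nat.dvd_prime (by norm_num)).1 (Monoid.exponent_dvd_of_forall_pow_eq_one
    fun g : H.U => Subtype.ext (H.pow_eleven g.2))).resolve_left fun e => H.c1 ?_
  have := Monoid.pow_exponent_eq_one (⟨c, H.c_mem⟩ : H.U)
  rw [e, pow_one] at this
  exact congrArg Subtype.val this

theorem extraspecial_U [Finite G] : Cfsg.IsExtraspecial 11 H.U := by
  haveI : Fact (Nat.Prime 11) := ⟨by norm_num⟩
  refine CfsgLib.HJType.isExtraspecial_of_nonabelian_cube (by rw [H.card_U]; norm_num)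
    ⟨⟨a, H.a_mem⟩, ⟨b, H.b_mem⟩, fun e => H.c1 ?_⟩
  have e' : a * b = b * a := congrArg Subtype.val e
  exact mul_left_cancel (a := b * a) (by rw [H.bac, e', mul_one])

theorem pr_mon (t : ℕ × ℕ × ℕ) : pr a b c (mon a b c t) = ![(t.1 : ZMod 11), (t.2.1 : ZMod 11)] := by
  have h : ∃ s, mon a b c s = mon a b c t := ⟨t, rfl⟩
  obtain ⟨h1, h2, -⟩ := H.mon_inj h.choose_spec
  rw [pr, dif_pos h, h1, h2]

theorem pr_mul {g h : G} (hg : g ∈ H.U) (hh : h ∈ H.U) : pr a b c (g * h) = pr a b c g + pr a b c h := by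
  obtain ⟨s, rfl⟩ := hg
  obtain ⟨t, rfl⟩ := hh
  rw [H.mon_mul, H.pr_mon, H.pr_mon, H.pr_mon]
  funext i
  fin_cases i <;> simp

theorem pr_a : pr a b c a = ![1, 0] := by
  have := H.pr_mon (1, 0, 0); simpa [mon] using this

theorem pr_b : pr a b c b = ![0, 1] := by
  have := H.pr_mon (0, 1, 0); simpa [mon] using this

theorem pr_c_pow (k : ℕ) : pr a b c (c ^ k) = 0 := by
  have := H.pr_mon (0, 0, k)
  simp [mon] at this
  rw [this]
  ext i; fin_cases i <;> simp

theorem pr_pow {g : G} (hg : g ∈ H.U) : ∀ n : ℕ, pr a b c (g ^ n) = (n : ZMod 11) • pr a b c g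
  | 0 => by simpa using H.pr_c_pow 0
  | n + 1 => by rw [pow_succ, H.pr_mul (pow_mem hg n) hg, pr_pow hg n]; push_cast; rw [add_smul, one_smul]

theorem conj_mem [Finite G] {n : G} (ha : n * a * n⁻¹ ∈ H.U) (hb : n * b * n⁻¹ ∈ H.U) (hc : n * c * n⁻¹ ∈ H.U) :
    n ∈ normalizer (H.U : Set G) := by
  have hle : H.U.map (MulAut.conj n).toMonoidHom ≤ H.U := by
    rintro _ ⟨_, ⟨t, rfl⟩, rfl⟩
    simp only [mon, map_mul, map_pow, MulEquiv.coe_toMonoidHom, MulAut.conj_apply]
    exact mul_mem (mul_mem (pow_mem ha _) (pow_mem hb _)) (pow_mem hc _)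
  have heq : H.U.map (MulAut.conj n).toMonoidHom = H.U :=
    eq_of_le_of_card_ge hle (by rw [card_map_of_injective (MulAut.conj n).injective])
  refine mem_normalizer_iff.2 fun g => ⟨fun hg => heq ▸ ⟨g, hg, rfl⟩, fun hg => ?_⟩
  rw [← heq] at hg
  obtain ⟨g', hg', e⟩ := hg
  exact (MulAut.conj n).injective (e : MulAut.conj n g' = MulAut.conj n g) ▸ hg'

theorem norm_mem {n : G} (hn : n ∈ normalizer (H.U : Set G)) {g : G} (hg : g ∈ H.U) : n * g * n⁻¹ ∈ H.U :=
  (mem_normalizer_iff.1 hn g).1 hg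

theorem pr_conj {n : G} (hn : n ∈ normalizer (H.U : Set G)) (t : ℕ × ℕ × ℕ) :
    pr a b c (n * mon a b c t * n⁻¹) = (t.1 : ZMod 11) • pr a b c (n * a * n⁻¹) + (t.2.1 : ZMod 11) • pr a b c (n * b * n⁻¹) := by
  have ma := H.norm_mem hn H.a_mem
  have mb := H.norm_mem hn H.b_mem
  have mc := H.norm_mem hn H.c_mem
  have hc : pr a b c (n * c * n⁻¹) = 0 := by
    have e : n * b * n⁻¹ * (n * a * n⁻¹) * (n * c * n⁻¹) = n * a * n⁻¹ * (n * b * n⁻¹) := by
      calc n * b * n⁻¹ * (n * a * n⁻¹) * (n * c * n⁻¹) = n * (b * a * c) * n⁻¹ := by group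
        _ = _ := by rw [H.bac]; group
    have h := congrArg (pr a b c) e
    rw [H.pr_mul (mul_mem mb ma) mc, H.pr_mul mb ma, H.pr_mul ma mb, add_comm (pr a b c (n * a * n⁻¹))] at h
    exact add_eq_left.1 h
  have e : n * mon a b c t * n⁻¹ = (n * a * n⁻¹) ^ t.1 * (n * b * n⁻¹) ^ t.2.1 * (n * c * n⁻¹) ^ t.2.2 := by
    rw [conj_pow, conj_pow, conj_pow, mon]; group
  rw [e, H.pr_mul (mul_mem (pow_mem ma _) (pow_mem mb _)) (pow_mem mc _), H.pr_mul (pow_mem ma _) (pow_mem mb _),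
    H.pr_pow ma, H.pr_pow mb, H.pr_pow mc, hc, smul_zero, add_zero]

/-- The action on the two exponents. -/
noncomputable def act : normalizer (H.U : Set G) →* Matrix (Fin 2) (Fin 2) (ZMod 11) where
  toFun n := Matrix.of fun i j => ![pr a b c ((n : G) * a * (n : G)⁻¹), pr a b c ((n : G) * b * (n : G)⁻¹)] j i
  map_one' := by
    ext i j
    fin_cases i <;> fin_cases j <;> simp [H.pr_a, H.pr_b]
  map_mul' n m := by
    have key : ∀ g ∈ H.U, pr a b c ((n : G) * g * (n : G)⁻¹) =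
        pr a b c g 0 • pr a b c ((n : G) * a * (n : G)⁻¹) + pr a b c g 1 • pr a b c ((n : G) * b * (n : G)⁻¹) := by
      rintro _ ⟨t, rfl⟩
      rw [H.pr_conj n.2 t, H.pr_mon]
      simp
    have ea := key _ (H.norm_mem m.2 H.a_mem)
    have eb := key _ (H.norm_mem m.2 H.b_mem)
    ext i j
    simp only [Subgroup.coe_mul, Matrix.of_apply, Matrix.mul_apply, Fin.sum_univ_two]
    fin_cases j <;>
      simp only [Fin.zero_eta, Fin.mk_one, Matrix.cons_val_zero, Matrix.cons_val_one, Matrix.cons_val_fin_one]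
    · rw [show (n : G) * m * a * ((n : G) * m)⁻¹ = n * ((m : G) * a * (m : G)⁻¹) * (n : G)⁻¹ by group, ea]
      simp only [Pi.add_apply, Pi.smul_apply, smul_eq_mul]
      ring
    · rw [show (n : G) * m * b * ((n : G) * m)⁻¹ = n * ((m : G) * b * (m : G)⁻¹) * (n : G)⁻¹ by group, eb]
      simp only [Pi.add_apply, Pi.smul_apply, smul_eq_mul]
      ring

theorem card_normalizer_dvd [Finite G] {e : ℕ} (he : Nat.card G = 11 ^ 3 * e) (h11 : ¬ 11 ∣ e)
    (hcent : ∀ q : ℕ, q.Prime → q ≠ 11 → ∀ g : G, orderOf g = q → g * a = a * g → g * b = b * g → False) :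
    Nat.card (normalizer (H.U : Set G)) ∣ 11 ^ 3 * 13200 := by
  classical
  haveI : Fact (Nat.Prime 11) := ⟨by norm_num⟩
  set ψ := H.act.toHomUnits with hψ
  have hK : ∀ p : ℕ, p.Prime → p ∣ Nat.card ψ.ker → p = 11 := by
    intro q hq hdvd
    by_contra hne
    haveI : Fact q.Prime := ⟨hq⟩
    obtain ⟨n, hn⟩ := exists_prime_orderOf_dvd_card' q hdvd
    have ho : orderOf ((n : normalizer (H.U : Set G)) : G) = q := by
      rw [Subgroup.orderOf_coe, Subgroup.orderOf_coe, hn]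
    set g : G := ((n : normalizer (H.U : Set G)) : G) with hg
    have hgN : g ∈ normalizer (H.U : Set G) := (n : normalizer (H.U : Set G)).2
    have h1 : H.act (n : normalizer (H.U : Set G)) = 1 := congrArg Units.val n.2
    have hfix : ∀ {w : G}, w ∈ H.U → pr a b c w = pr a b c (g * w * g⁻¹) → g * c * g⁻¹ = c → g * w * g⁻¹ = w := by
      intro w hw hpr hgc
      obtain ⟨⟨i, j, k⟩, hs⟩ := hw
      obtain ⟨⟨i', j', k'⟩, ht⟩ := H.norm_mem hgN (show w ∈ H.U from ⟨⟨i, j, k⟩, hs⟩)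
      have e : g * w * g⁻¹ = w * c ^ (k' + 10 * k) := by
        rw [← ht, ← hs] at hpr
        rw [H.pr_mon, H.pr_mon] at hpr
        have p0 := congrFun hpr 0
        have p1 := congrFun hpr 1
        simp only [Matrix.cons_val_zero, Matrix.cons_val_one, Matrix.cons_val_fin_one] at p0 p1
        rw [← ht, ← hs]
        have ec : mon a b c (0, 0, k' + 10 * k) = c ^ (k' + 10 * k) := by simp [mon]
        rw [← ec, H.mon_mul]
        have h11 : (11 : ZMod 11) = 0 := rfl
        refine H.mon_eq ?_ ?_ ?_ <;> push_cast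
        · simpa using p0.symm
        · simpa using p1.symm
        · linear_combination (-(k : ZMod 11)) * h11
      generalize k' + 10 * k = l at e
      have hp : ∀ m : ℕ, g ^ m * w * (g ^ m)⁻¹ = w * c ^ (m * l) := by
        intro m
        induction m with
        | zero => simp
        | succ m ih =>
          calc g ^ (m + 1) * w * (g ^ (m + 1))⁻¹ = g * (g ^ m * w * (g ^ m)⁻¹) * g⁻¹ := by rw [pow_succ']; group
            _ = g * w * g⁻¹ * (g * c * g⁻¹) ^ (m * l) := by rw [ih, conj_pow]; group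
            _ = _ := by rw [e, hgc, mul_assoc, ← pow_add]; congr 2; ring
      have := hp q
      rw [← ho, pow_orderOf_eq_one, ho, one_mul, inv_one, mul_one] at this
      have hdiv : 11 ∣ q * l := H.orderOf_c ▸ orderOf_dvd_of_pow_eq_one (mul_left_cancel (this.symm.trans (mul_one w).symm))
      obtain ⟨r, hr⟩ := ((Nat.Prime.dvd_mul (by norm_num)).1 hdiv).resolve_left
        fun h => hne ((Nat.prime_dvd_prime_iff_eq (by norm_num) hq).1 h).symm
      rw [e, hr, (H.pow11 r).2.2, mul_one]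
    have pa : pr a b c a = pr a b c (g * a * g⁻¹) := by
      funext i
      have := congrFun (congrFun h1 i) 0
      rw [H.pr_a]
      fin_cases i <;> simpa [Heis.act, hg, Matrix.one_apply] using this.symm
    have pb : pr a b c b = pr a b c (g * b * g⁻¹) := by
      funext i
      have := congrFun (congrFun h1 i) 1
      rw [H.pr_b]
      fin_cases i <;> simpa [Heis.act, hg, Matrix.one_apply] using this.symm
    have hgc : g * c * g⁻¹ = c := by
      obtain ⟨⟨i, j, k⟩, hs⟩ := H.norm_mem hgN H.a_mem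
      obtain ⟨⟨i', j', k'⟩, ht⟩ := H.norm_mem hgN H.b_mem
      rw [← hs, H.pr_mon, H.pr_a] at pa
      rw [← ht, H.pr_mon, H.pr_b] at pb
      have ea : g * a * g⁻¹ = a * c ^ k := by
        rw [← hs, H.mon_eq (s := (i, j, k)) (t := (1, 0, k)) (by simpa using (congrFun pa 0).symm)
          (by simpa using (congrFun pa 1).symm) rfl]
        simp [mon]
      have eb : g * b * g⁻¹ = b * c ^ k' := by
        rw [← ht, H.mon_eq (s := (i', j', k')) (t := (0, 1, k')) (by simpa using (congrFun pb 0).symm)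
          (by simpa using (congrFun pb 1).symm) rfl]
        simp [mon]
      have e : g * b * g⁻¹ * (g * a * g⁻¹) * (g * c * g⁻¹) = g * a * g⁻¹ * (g * b * g⁻¹) := by
        calc g * b * g⁻¹ * (g * a * g⁻¹) * (g * c * g⁻¹) = g * (b * a * c) * g⁻¹ := by group
          _ = _ := by rw [H.bac]; group
      rw [ea, eb] at e
      have ck : ∀ (m : ℕ), Commute (c ^ m) a ∧ Commute (c ^ m) b := fun m =>
        ⟨((show Commute a c from H.ac).pow_right m).symm, ((show Commute b c from H.bc).pow_right m).symm⟩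
      rw [show b * c ^ k' * (a * c ^ k) = b * (c ^ k' * a) * c ^ k by group, (ck k').1.eq,
        show a * c ^ k * (b * c ^ k') = a * (c ^ k * b) * c ^ k' by group, (ck k).2.eq,
        show a * (b * c ^ k) * c ^ k' = a * b * (c ^ k * c ^ k') by group, ← H.bac,
        show b * (a * c ^ k') * c ^ k * (g * c * g⁻¹) = b * a * ((c ^ k' * c ^ k) * (g * c * g⁻¹)) by group,
        ((Commute.refl c).pow_pow k k').eq, mul_assoc (b * a) c] at e
      have e' := mul_left_cancel e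
      rw [show c * (c ^ k' * c ^ k) = c ^ k' * c ^ k * c by
        rw [((Commute.refl c).pow_right k').mul_right ((Commute.refl c).pow_right k) |>.eq]] at e'
      exact mul_left_cancel e'
    exact hcent q hq hne g ho (mul_inv_eq_iff_eq_mul.1 (hfix H.a_mem pa hgc))
      (mul_inv_eq_iff_eq_mul.1 (hfix H.b_mem pb hgc))
  have hKp : ∃ r, Nat.card ψ.ker = 11 ^ r := ⟨_, Nat.eq_prime_pow_of_unique_prime_dvd Nat.card_pos.ne'
    fun {d} hd hdd => hK d hd hdd⟩
  obtain ⟨r, hr⟩ := hKp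
  have hr3 : r ≤ 3 := by
    by_contra hlt
    have h4 : 11 ^ 4 ∣ 11 ^ 3 * e := he ▸ (pow_dvd_pow 11 (show 4 ≤ r by omega)).trans
      (hr ▸ (card_subgroup_dvd_card _).trans (card_subgroup_dvd_card _))
    exact h11 (Nat.dvd_of_mul_dvd_mul_left (by norm_num : 0 < 11 ^ 3) (by rwa [← pow_succ]))
  have hGL : Nat.card (Matrix (Fin 2) (Fin 2) (ZMod 11))ˣ = 13200 := by
    rw [show (Matrix (Fin 2) (Fin 2) (ZMod 11))ˣ = GL (Fin 2) (ZMod 11) from rfl, Matrix.card_GL_field]
    simp [Fin.prod_univ_two, ZMod.card]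
  have hmul := card_mul_index ψ.ker
  rw [index_ker] at hmul
  rw [← hmul, hr]
  exact Nat.mul_dvd_mul (pow_dvd_pow 11 hr3) (hGL ▸ card_subgroup_dvd_card _)

end Heis

end CfsgLib.J4Eleven
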