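import Cfsg.Agent.Lib.J4G.Values
import Cfsg.Agent.Lib.J4Eleven.Data

/-!
# Kernel checks on the packed matrices of a Sylow 11-subgroup and of its normaliser
-/

set_option autoImplicit false
set_option maxRecDepth 100000

namespace CfsgLib.J4Eleven

open CfsgLib.J4G CfsgLib.J4P

/-- The value of the first generator. -/
noncomputable def aP : ℕ := evalP envA aW
/-- The value of the second generator. -/
noncomputable def bP : ℕ := evalP envA bW
/-- The value of their commutator. -/
noncomputable def cP : ℕ := mP (mP (powP aP 10) (powP bP 10)) (mP aP bP)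

/-- The value of a monomial. -/
noncomputable def monP : List ℕ → ℕ
  | [i, j, k] => mP (mP (powP aP i) (powP bP j)) (powP cP k)
  | _ => 0

/-- The element of order eight. -/
noncomputable def xP : ℕ := mP (monP [9, 4, 3]) (evalP envA xW)
/-- The involution. -/
noncomputable def yP : ℕ := mP (monP [0, 9, 7]) (evalP envA yW)
/-- The element of order ten. -/
noncomputable def fP : ℕ := evalP envA CfsgLib.J4Eleven.fW

/-- The three normalizing elements. -/
noncomputable def nP : List ℕ := [xP, yP, fP]

/-- The product of two matrices of degree two over three elements, by codes. -/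
def mulC (s t : ℕ) : ℕ :=
  let e := fun (u p : ℕ) => u / 3 ^ (3 - p) % 3
  27 * ((e s 0 * e t 0 + e s 1 * e t 2) % 3) + 9 * ((e s 0 * e t 1 + e s 1 * e t 3) % 3) +
    3 * ((e s 2 * e t 0 + e s 3 * e t 2) % 3) + (e s 2 * e t 1 + e s 3 * e t 3) % 3

/-- The word of a code. -/
def glW (s : ℕ) : List ℕ := ((glT.find? fun p => Nat.beq p.1 s).map Prod.snd).getD []

/-- The value of a code. -/
noncomputable def glP (s : ℕ) : ℕ := evalP [xP, yP] (glW s)

theorem im_checks :
    ((List.range 3).all fun i => (List.range 3).all fun r =>
      Nat.beq (mP (nP.getD i 0) ([aP, bP, cP].getD r 0))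
        (mP (monP ((imT.getD i []).getD r [])) (nP.getD i 0))) = true := by
  decide +kernel

theorem gl_checks :
    ((glT.map Prod.fst).all fun s =>
      Nat.beq (glP (mulC s 39)) (mP (glP s) xP) && Nat.beq (glP (mulC s 29)) (mP (glP s) yP)) = true := by
  decide +kernel

theorem gl_inj :
    Nat.beq (glP 28) idP = true ∧
    ((glT.map Prod.fst).all fun s => Nat.beq s 28 || !Nat.beq (glP s) idP) = true := by
  refine ⟨?_, ?_⟩ <;> decide +kernel

theorem five_checks :
    (let w := powP fP 2; Nat.beq (powP w 5) idP && !Nat.beq w idP) = true := by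
  decide +kernel

theorem fix_a_checks :
    (goodP fixA && Nat.beq (mP fixA aP) fixA && decide (((rowsP fixA).take 5).Nodup)) = true := by
  decide +kernel

theorem fix_c_checks :
    (goodP pinvC && (rowsP (Nat.xor (mP (Nat.xor cP idP) pinvC) idP)).all fun r =>
      Nat.beq r 0 || Nat.beq r w1 || Nat.beq r w2 || Nat.beq r (Nat.xor w1 w2)) = true := by
  decide +kernel

end CfsgLib.J4Eleven
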