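import Cfsg.Agent.Lib.J4Eleven.Transfer

/-!
The normalizer of the Sylow 11-subgroup, given that nothing of order prime to eleven centralizes it.
-/

set_option autoImplicit false
set_option linter.unusedSectionVars false
set_option linter.style.haveILetI false

namespace CfsgLib.J4Eleven

open Subgroup Pointwise

variable {G : Type*} [Group G] [Finite G] {a b c : G}

theorem Heis.a_ne_one (H : Heis a b c) : a ≠ 1 := fun e => by
  have h := H.bac
  rw [e, mul_one, one_mul] at h
  exact H.c1 (mul_left_cancel (h.trans (mul_one b).symm))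

theorem Heis.orderOf_a (H : Heis a b c) : orderOf a = 11 := by
  haveI : Fact (Nat.Prime 11) := ⟨by norm_num⟩
  exact orderOf_eq_prime H.a11 H.a_ne_one

theorem Heis.U_le_cent (H : Heis a b c) {g : G} (ha : g * a = a * g) (hb : g * b = b * g) :
    H.U ≤ centralizer ({g} : Set G) := by
  rintro _ ⟨t, rfl⟩
  rw [mem_centralizer_singleton_iff]
  have ha' : Commute a g := ha.symm
  have hb' : Commute b g := hb.symm
  have hc' : Commute c g := by
    have e : c = (b * a)⁻¹ * (a * b) := by rw [← H.bac]; group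
    rw [e]
    exact ((hb'.mul_left ha').inv_left).mul_left (ha'.mul_left hb')
  exact (((ha'.pow_left t.1).mul_left (hb'.pow_left t.2.1)).mul_left (hc'.pow_left t.2.2)).eq

/-- Two elements of a prime order whose square does not divide the order generate conjugate subgroups. -/
theorem exists_conj_mem_zpowers {q : ℕ} [Fact q.Prime] (C : Subgroup G) (hq : ¬ q ^ 2 ∣ Nat.card G) {g h : G}
    (hg : g ∈ C) (hh : h ∈ C) (og : orderOf g = q) (oh : orderOf h = q) : ∃ x ∈ C, x * h * x⁻¹ ∈ zpowers g := by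
  have hp : ∀ w : C, orderOf w = q → IsPGroup q (zpowers w) := fun w hw =>
    IsPGroup.of_card (n := 1) (by rw [Nat.card_zpowers, hw, pow_one])
  have og' : orderOf (⟨g, hg⟩ : C) = q := by rw [← Subgroup.orderOf_coe]; exact og
  have oh' : orderOf (⟨h, hh⟩ : C) = q := by rw [← Subgroup.orderOf_coe]; exact oh
  obtain ⟨P, hP⟩ := (hp _ og').exists_le_sylow
  obtain ⟨R, hR⟩ := (hp _ oh').exists_le_sylow
  have hPc : zpowers (⟨g, hg⟩ : C) = (P : Subgroup C) := by
    refine eq_of_le_of_card_ge hP ?_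
    obtain ⟨n, hn⟩ := IsPGroup.iff_card.1 P.2
    rw [hn, Nat.card_zpowers, og']
    have hn1 : n ≤ 1 := by
      by_contra hlt
      exact hq ((pow_dvd_pow q (show 2 ≤ n by omega)).trans
        (hn ▸ (card_subgroup_dvd_card (P : Subgroup C)).trans (card_subgroup_dvd_card C)))
    exact (Nat.pow_le_pow_right (Fact.out : q.Prime).pos hn1).trans_eq (pow_one q)
  obtain ⟨x, hx⟩ := MulAction.exists_smul_eq C R P
  have hm : MulAut.conj x • (⟨h, hh⟩ : C) ∈ (MulAut.conj x • (R : Subgroup C)) :=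
    smul_mem_pointwise_smul (⟨h, hh⟩ : C) (MulAut.conj x) _ (hR (mem_zpowers _))
  rw [← Sylow.coe_subgroup_smul, hx, ← hPc, MulAut.smul_def, MulAut.conj_apply] at hm
  obtain ⟨m, hm⟩ := mem_zpowers_iff.1 hm
  exact ⟨x, x.2, mem_zpowers_iff.2 ⟨m, by simpa using congrArg Subtype.val hm⟩⟩

/-- An element of such an order centralizing the subgroup commutes with an involution, when the normalizer has a
commutator acting on the subgroup as an involution. -/
theorem Heis.exists_invol (H : Heis a b c) {q : ℕ} (hq : q.Prime) (hq2 : ¬ q ^ 2 ∣ Nat.card G) {g : G}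
    (og : orderOf g = q) (hg : H.U ≤ centralizer ({g} : Set G)) {s t : G} (hs : s ∈ normalizer (H.U : Set G))
    (ht : t ∈ normalizer (H.U : Set G)) (hj2 : (s⁻¹ * t⁻¹ * s * t) ^ 2 = 1)
    (hj : s⁻¹ * t⁻¹ * s * t ∉ centralizer (H.U : Set G)) : ∃ i : G, orderOf i = 2 ∧ i * g = g * i := by
  haveI : Fact q.Prime := ⟨hq⟩
  haveI : Fact (Nat.Prime 2) := ⟨Nat.prime_two⟩
  have hgC : g ∈ centralizer (H.U : Set G) :=
    mem_centralizer_iff.2 fun u hu => mem_centralizer_singleton_iff.1 (hg hu)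
  have key : ∀ n ∈ normalizer (H.U : Set G), ∃ x ∈ centralizer (H.U : Set G),
      x * n * g * (x * n)⁻¹ ∈ zpowers g := by
    intro n hn
    have hC : n * g * n⁻¹ ∈ centralizer (H.U : Set G) := mem_centralizer_iff.2 fun u hu => by
      have hu' : n⁻¹ * u * n⁻¹⁻¹ ∈ H.U := H.norm_mem (inv_mem hn) hu
      rw [inv_inv] at hu'
      have h := mem_centralizer_iff.1 hgC _ hu'
      calc u * (n * g * n⁻¹) = n * (n⁻¹ * u * n * g) * n⁻¹ := by group
        _ = _ := by rw [h]; group
    obtain ⟨x, hx, hm⟩ := exists_conj_mem_zpowers (centralizer (H.U : Set G)) hq2 hgC hC og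
      (by rw [← og]; exact orderOf_injective (MulAut.conj n).toMonoidHom (MulAut.conj n).injective g)
    exact ⟨x, hx, by simpa [mul_assoc] using hm⟩
  obtain ⟨x, hx, hxs⟩ := key s hs
  obtain ⟨x', hx', hxt⟩ := key t ht
  obtain ⟨m, hm⟩ := mem_zpowers_iff.1 hxs
  obtain ⟨n, hn⟩ := mem_zpowers_iff.1 hxt
  set s' := x * s
  set t' := x' * t
  have e1 : s' * t' * g * (s' * t')⁻¹ = g ^ (m * n) := by
    calc s' * t' * g * (s' * t')⁻¹ = s' * (t' * g * t'⁻¹) * s'⁻¹ := by group
      _ = _ := by rw [← hn, ← conj_zpow, ← hm, ← zpow_mul]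
  have e2 : t' * s' * g * (t' * s')⁻¹ = g ^ (n * m) := by
    calc t' * s' * g * (t' * s')⁻¹ = t' * (s' * g * s'⁻¹) * t'⁻¹ := by group
      _ = _ := by rw [← hm, ← conj_zpow, ← hn, ← zpow_mul]
  rw [mul_comm n m, ← e1] at e2
  have hy : (t' * s')⁻¹ * (s' * t') * g = g * ((t' * s')⁻¹ * (s' * t')) := by
    calc (t' * s')⁻¹ * (s' * t') * g = (t' * s')⁻¹ * (s' * t' * g * (s' * t')⁻¹) * (s' * t') := by group
      _ = _ := by rw [← e2]; group
  -- the image in the automorphisms of the subgroup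
  have hCN : centralizer (H.U : Set G) ≤ normalizer (H.U : Set G) := centralizer_le_normalizer _
  let φ := H.U.normalizerMonoidHom
  have hker : ∀ (w : G) (hw : w ∈ normalizer (H.U : Set G)), φ ⟨w, hw⟩ = 1 ↔ w ∈ centralizer (H.U : Set G) := by
    intro w hw
    rw [← MonoidHom.mem_ker, normalizerMonoidHom_ker]
    exact mem_subgroupOf
  let S : normalizer (H.U : Set G) := ⟨s, hs⟩
  let T : normalizer (H.U : Set G) := ⟨t, ht⟩
  let X : normalizer (H.U : Set G) := ⟨x, hCN hx⟩
  let X' : normalizer (H.U : Set G) := ⟨x', hCN hx'⟩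
  let Y : normalizer (H.U : Set G) := ((X' * T) * (X * S))⁻¹ * ((X * S) * (X' * T))
  have eY : (Y : G) = (t' * s')⁻¹ * (s' * t') := rfl
  have hφ : φ Y = φ (S⁻¹ * T⁻¹ * S * T) := by
    simp only [Y, map_mul, map_inv, show φ X = 1 from (hker x (hCN hx)).2 hx,
      show φ X' = 1 from (hker x' (hCN hx')).2 hx']
    group
  have ho : orderOf (φ Y) = 2 := by
    refine orderOf_eq_prime ?_ fun e => hj ?_
    · rw [hφ, ← map_pow, show (S⁻¹ * T⁻¹ * S * T) ^ 2 = 1 from Subtype.ext (by simpa using hj2), map_one]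
    · rw [hφ] at e
      exact (hker (s⁻¹ * t⁻¹ * s * t) (S⁻¹ * T⁻¹ * S * T).2).1 e
  have h2 : 2 ∣ orderOf (Y : G) := by
    rw [Subgroup.orderOf_coe, ← ho]
    exact orderOf_map_dvd φ Y
  refine ⟨(Y : G) ^ (orderOf (Y : G) / 2), orderOf_pow_orderOf_div (orderOf_pos (Y : G)).ne' h2, ?_⟩
  rw [← eY] at hy
  exact (Commute.pow_left hy _).eq

/-- The quaternion generators of the linear group of degree two over three elements. -/
def qI : GL (Fin 2) (ZMod 3) := ⟨!![0, 2; 1, 0], !![0, 1; 2, 0], by decide, by decide⟩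

/-- The other quaternion generator. -/
def qJ : GL (Fin 2) (ZMod 3) := ⟨!![1, 1; 1, 2], !![2, 2; 2, 1], by decide, by decide⟩

theorem quat_comm : (qI⁻¹ * qJ⁻¹ * qI * qJ) ^ 2 = 1 ∧ qI⁻¹ * qJ⁻¹ * qI * qJ ≠ 1 := by
  decide +kernel

/-- The normalizer has order `2 ^ 4 * 3 * 5 * 11 ^ 3` and contains the linear group. -/
theorem Frame.normalizer_card (F : Frame a b c) (hG : Nat.card G = 86775571046077562880)
    (hcent : ∀ q : ℕ, q.Prime → q ≠ 11 → ∀ g : G, orderOf g = q → g * a = a * g → g * b = b * g → False) :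
    Nat.card (normalizer (F.heis.U : Set G)) = 2 ^ 4 * 3 * 5 * 11 ^ 3 ∧
      ∃ K : Subgroup G, K ≤ normalizer (F.heis.U : Set G) ∧ Nonempty (K ≃* GL (Fin 2) (ZMod 3)) := by
  haveI : Fact (Nat.Prime 3) := ⟨Nat.prime_three⟩
  obtain ⟨ι, hι, hm⟩ := F.gl
  have H := F.heis
  have hr : ι.range ≤ normalizer (H.U : Set G) := by
    rintro _ ⟨A, rfl⟩
    exact H.conj_mem (hm A a (by simp)) (hm A b (by simp)) (hm A c (by simp))
  refine ⟨?_, ι.range, hr, ⟨(MonoidHom.ofInjective hι).symm⟩⟩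
  refine Nat.dvd_antisymm ?_ ?_
  · have h1 := H.card_normalizer_dvd (e := 65195770883604480) (by rw [hG]; norm_num) (by norm_num) hcent
    have h2 := card_subgroup_dvd_card (normalizer (H.U : Set G))
    rw [hG] at h2
    exact (Nat.dvd_gcd h2 h1).trans (by norm_num)
  · have h1331 : 1331 ∣ Nat.card (normalizer (H.U : Set G)) := by
      have h := card_dvd_of_le (le_normalizer (H := H.U))
      rwa [H.card_U] at h
    have h48 : 48 ∣ Nat.card (normalizer (H.U : Set G)) := by
      have h := card_dvd_of_le hr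
      rwa [← Nat.card_congr (MonoidHom.ofInjective hι).toEquiv, Matrix.card_GL_field,
        show (∏ i : Fin 2, (Fintype.card (ZMod 3) ^ 2 - Fintype.card (ZMod 3) ^ (i : ℕ))) = 48 by
          simp [Fin.prod_univ_two, ZMod.card]] at h
    have h5 : 5 ∣ Nat.card (normalizer (H.U : Set G)) := by
      obtain ⟨w, hw, hwm⟩ := F.five
      have hwN := H.conj_mem (hwm a (by simp)) (hwm b (by simp)) (hwm c (by simp))
      rw [← hw, ← Subgroup.orderOf_mk w hwN]
      exact orderOf_dvd_natCard _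
    have h : Nat.lcm (Nat.lcm 1331 48) 5 ∣ Nat.card (normalizer (H.U : Set G)) :=
      Nat.lcm_dvd (Nat.lcm_dvd h1331 h48) h5
    exact (by norm_num : 2 ^ 4 * 3 * 5 * 11 ^ 3 ∣ Nat.lcm (Nat.lcm 1331 48) 5).trans h

end CfsgLib.J4Eleven
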