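import Cfsg.Agent.S5563
import Cfsg.Agent.S5564
import Cfsg.Agent.S5569
import Cfsg.Agent.S5572
import Cfsg.Agent.S5573
import Cfsg.Agent.Lib.J4Eleven.Normalizer
import Cfsg.Agent.Lib.J4Kp.Simple
import Cfsg.Agent.Lib.JankoFour.Split

/-!
The Sylow 11-subgroup of a group of Janko-four type, given an isomorphism with the presented group.
-/

set_option autoImplicit false
set_option linter.unusedSectionVars false
set_option linter.style.haveILetI false

namespace CfsgLib.J4Eleven

open Subgroup Cfsg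

variable {G : Type*} [Group G] [Finite G]

theorem card_cent_z {z : G} (hz : IsOfJankoFourTypeAt z) :
    Nat.card ↥(centralizer ({z} : Set G)) = 21799895040 := by
  obtain ⟨P, -, -, h3, -, ⟨N, -, hNH, -, hN, ⟨hn, ⟨e⟩⟩, -⟩, -⟩ := hz
  haveI := hn
  rw [Subgroup.card_eq_card_quotient_mul_card_subgroup (N.subgroupOf (centralizer ({z} : Set G))),
    Nat.card_congr e.toEquiv, Nat.card_congr (subgroupOfEquivOfLe hNH).toEquiv, hN, h3, JankoFour.card_aut_M22]
  norm_num

theorem card_cent_conj (g z : G) :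
    Nat.card ↥(centralizer ({g * z * g⁻¹} : Set G)) = Nat.card ↥(centralizer ({z} : Set G)) := by
  have e : centralizer ({g * z * g⁻¹} : Set G) = (centralizer ({z} : Set G)).map (MulAut.conj g).toMonoidHom := by
    ext w
    simp only [mem_map, mem_centralizer_singleton_iff, MulEquiv.coe_toMonoidHom, MulAut.conj_apply]
    constructor
    · intro hw
      refine ⟨g⁻¹ * w * g, ?_, by group⟩
      calc g⁻¹ * w * g * z = g⁻¹ * (w * (g * z * g⁻¹)) * g := by group
        _ = _ := by rw [hw]; group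
    · rintro ⟨v, hv, rfl⟩
      calc g * v * g⁻¹ * (g * z * g⁻¹) = g * (v * z) * g⁻¹ := by group
        _ = _ := by rw [hv]; group
  rw [e, card_map_of_injective (MulAut.conj g).injective]

theorem cent_invol_cases [IsSimpleGroup G] (hG : ¬ IsMulCommutative G) {z : G} (hz : IsOfJankoFourTypeAt z) {i : G}
    (hi : orderOf i = 2) : Nat.card ↥(centralizer ({i} : Set G)) = 21799895040 ∨
      Nat.card ↥(centralizer ({i} : Set G)) = 1816657920 := by
  by_cases hc : IsConj z i
  · obtain ⟨g, hg⟩ := isConj_iff.1 hc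
    left
    rw [← hg, card_cent_conj, card_cent_z hz]
  · right
    obtain ⟨V, K, -, hK, hn, -, hV, hKV, hsup, ⟨e⟩⟩ := Cfsg.Agent.S5569.result hG z hz i hi hc
    rw [← hsup, sup_comm, JankoFour.card_sup_disjoint (hK.trans hn) (inf_comm K V ▸ hKV), hV,
      Nat.card_congr e.toEquiv, JankoFour.card_aut_M22]
    norm_num

theorem large_prime {q : ℕ} (hq : q.Prime) (h : q ∣ 86775571046077562880) :
    q = 2 ∨ q = 3 ∨ q = 5 ∨ q = 7 ∨ q = 11 ∨
      (¬ q ^ 2 ∣ 86775571046077562880 ∧ ¬ q ∣ 21799895040 ∧ ¬ q ∣ 1816657920) := by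
  rw [show 86775571046077562880 = 2 ^ 21 * (3 ^ 3 * (5 * (7 * (11 ^ 3 * (23 * (29 * (31 * (37 * 43)))))))) by
    norm_num] at h
  have e : ∀ p : ℕ, p.Prime → q ∣ p → q = p := fun p hp hd => (Nat.prime_dvd_prime_iff_eq hq hp).1 hd
  simp only [hq.dvd_mul] at h
  rcases h with h | h | h | h | h | h | h | h | h | h
  · exact Or.inl (e 2 Nat.prime_two (hq.dvd_of_dvd_pow h))
  · exact Or.inr (Or.inl (e 3 Nat.prime_three (hq.dvd_of_dvd_pow h)))
  · exact Or.inr (Or.inr (Or.inl (e 5 (by norm_num) h)))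
  · exact Or.inr (Or.inr (Or.inr (Or.inl (e 7 (by norm_num) h))))
  · exact Or.inr (Or.inr (Or.inr (Or.inr (Or.inl (e 11 (by norm_num) (hq.dvd_of_dvd_pow h))))))
  all_goals
    obtain rfl := e _ (by norm_num) h
    norm_num

/-- An element of order eleven commuting with `g` lies in the normalizer of a subgroup conjugate to that of `g`. -/
theorem exists_in_normalizer {q : ℕ} (hq : q.Prime) (hq2 : ¬ q ^ 2 ∣ Nat.card G) {g x y : G} (og : orderOf g = q)
    (ox : orderOf x = q) (hy : y * g = g * y) : orderOf y ∣ Nat.card ↥(normalizer (zpowers x : Set G)) := by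
  haveI : Fact q.Prime := ⟨hq⟩
  obtain ⟨k, -, hk⟩ := exists_conj_mem_zpowers (⊤ : Subgroup G) hq2 (mem_top x) (mem_top g) ox og
  have ok : orderOf (k * g * k⁻¹) = q := by
    rw [← og]; exact orderOf_injective (MulAut.conj k).toMonoidHom (MulAut.conj k).injective g
  have heq : zpowers (k * g * k⁻¹) = zpowers x :=
    eq_of_le_of_card_ge (zpowers_le.2 hk) (by rw [Nat.card_zpowers, Nat.card_zpowers, ok, ox])
  have hc : Commute (k * y * k⁻¹) (k * g * k⁻¹) := by
    show k * y * k⁻¹ * (k * g * k⁻¹) = k * g * k⁻¹ * (k * y * k⁻¹)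
    calc k * y * k⁻¹ * (k * g * k⁻¹) = k * (y * g) * k⁻¹ := by group
      _ = _ := by rw [hy]; group
  have hmem : k * y * k⁻¹ ∈ centralizer (zpowers x : Set G) := mem_centralizer_iff.2 fun u hu => by
    obtain ⟨m, rfl⟩ := mem_zpowers_iff.1 (heq.ge hu)
    exact ((hc.zpow_right m).eq).symm
  have hn := centralizer_le_normalizer _ hmem
  rw [show orderOf y = orderOf (k * y * k⁻¹) from
    (orderOf_injective (MulAut.conj k).toMonoidHom (MulAut.conj k).injective y).symm,
    ← Subgroup.orderOf_mk (k * y * k⁻¹) hn]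
  exact orderOf_dvd_natCard _

theorem exists_order_in_cent {z : G} (hz : IsOfJankoFourTypeAt z) {q : ℕ} (hq : q.Prime) (hd : q ∣ 21799895040) :
    ∃ x : G, orderOf x = q ∧ zpowers x ≤ centralizer ({z} : Set G) := by
  haveI : Fact q.Prime := ⟨hq⟩
  obtain ⟨x, hx⟩ := exists_prime_orderOf_dvd_card' (G := ↥(centralizer ({z} : Set G))) q
    (by rw [card_cent_z hz]; exact hd)
  exact ⟨x, by rw [Subgroup.orderOf_coe, hx], zpowers_le.2 x.2⟩

theorem no_fixed [IsSimpleGroup G] (hG : ¬ IsMulCommutative G) (hJ : IsOfJankoFourType G)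
    (hcard : Nat.card G = 86775571046077562880) {a b c : G} (F : Frame a b c) :
    ∀ q : ℕ, q.Prime → q ≠ 11 → ∀ g : G, orderOf g = q → g * a = a * g → g * b = b * g → False := by
  intro q hq hne g og ga gb
  obtain ⟨z, hz⟩ := hJ
  have H := F.heis
  have hU := H.U_le_cent ga gb
  have hnot : ∀ {i : G}, orderOf i = 2 → ¬ H.U ≤ centralizer ({i} : Set G) := fun {i} hi h => by
    have h := card_dvd_of_le h
    rw [H.card_U] at h
    rcases cent_invol_cases hG hz hi with e | e <;> (rw [e] at h; norm_num at h)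
  have hqG : q ∣ Nat.card G := og ▸ orderOf_dvd_natCard g
  rw [hcard] at hqG
  rcases large_prime hq hqG with rfl | rfl | rfl | rfl | rfl | ⟨hq2, hz1, hz2⟩
  · exact hnot og hU
  · -- order three
    obtain ⟨P, hP⟩ := hz
    have hn := (Cfsg.Agent.S5563.result hG z P hP).2.2.2.2
    have hcP : Nat.card P = 3 := hP.2.2.2.2.2.1
    haveI : Fact (Nat.Prime 3) := ⟨Nat.prime_three⟩
    obtain ⟨x, hx⟩ := exists_prime_orderOf_dvd_card' (G := ↥P) 3 (by rw [hcP])
    have hx' : orderOf (x : G) = 3 := by rw [Subgroup.orderOf_coe, hx]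
    have hPx : zpowers (x : G) = P :=
      eq_of_le_of_card_ge (zpowers_le.2 x.2) (by rw [Nat.card_zpowers, hx', hcP])
    obtain ⟨k, hk⟩ := isConj_iff.1 (Cfsg.Agent.S5564.result hG ⟨z, P, hP⟩ g x og hx')
    have hle : H.U.map (MulAut.conj k).toMonoidHom ≤ centralizer ({z} : Set G) := by
      rintro _ ⟨u, hu, rfl⟩
      refine hn (centralizer_le_normalizer _ (mem_centralizer_iff.2 fun v hv => ?_))
      rw [← hPx] at hv
      obtain ⟨m, rfl⟩ := mem_zpowers_iff.1 hv
      have hug : Commute g u := (mem_centralizer_singleton_iff.1 (hU hu)).symm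
      show (x : G) ^ m * (k * u * k⁻¹) = k * u * k⁻¹ * (x : G) ^ m
      rw [← hk, conj_zpow]
      calc k * g ^ m * k⁻¹ * (k * u * k⁻¹) = k * (g ^ m * u) * k⁻¹ := by group
        _ = _ := by rw [(hug.zpow_left m).eq]; group
    have h := card_dvd_of_le hle
    rw [card_map_of_injective (MulAut.conj k).injective, H.card_U, card_cent_z ⟨P, hP⟩] at h
    norm_num at h
  · -- order five
    obtain ⟨x, hx, hxz⟩ := exists_order_in_cent hz hq (by norm_num)
    have hr := Cfsg.Agent.S5572.result hG z hz (zpowers x) (by rw [Nat.card_zpowers, hx]) hxz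
    have h := exists_in_normalizer hq (by norm_num [hr.1]) og hx ga.symm
    rw [hr.2.2.2, H.orderOf_a] at h
    norm_num at h
  · -- order seven
    obtain ⟨x, hx, hxz⟩ := exists_order_in_cent hz hq (by norm_num)
    have hr := Cfsg.Agent.S5573.result hG z hz (zpowers x) (by rw [Nat.card_zpowers, hx]) hxz
    have h := exists_in_normalizer hq (by norm_num [hr.1]) og hx ga.symm
    rw [hr.2.2.2, H.orderOf_a] at h
    norm_num at h
  · exact hne rfl
  · -- the remaining primes
    obtain ⟨ι, hι, hm⟩ := F.gl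
    have hmem : ∀ A, ι A ∈ normalizer (H.U : Set G) := fun A =>
      H.conj_mem (hm A a (by simp)) (hm A b (by simp)) (hm A c (by simp))
    have ej : (ι qI)⁻¹ * (ι qJ)⁻¹ * ι qI * ι qJ = ι (qI⁻¹ * qJ⁻¹ * qI * qJ) := by
      simp only [map_mul, map_inv]
    have hj2 : ((ι qI)⁻¹ * (ι qJ)⁻¹ * ι qI * ι qJ) ^ 2 = 1 := by rw [ej, ← map_pow, quat_comm.1, map_one]
    have ho : orderOf ((ι qI)⁻¹ * (ι qJ)⁻¹ * ι qI * ι qJ) = 2 := by
      haveI : Fact (Nat.Prime 2) := ⟨Nat.prime_two⟩
      refine orderOf_eq_prime hj2 fun e => quat_comm.2 (hι ?_)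
      rw [← ej, e, map_one]
    have hj : (ι qI)⁻¹ * (ι qJ)⁻¹ * ι qI * ι qJ ∉ centralizer (H.U : Set G) := fun h =>
      hnot ho fun u hu => mem_centralizer_singleton_iff.2 (mem_centralizer_iff.1 h u hu)
    obtain ⟨i, hi, hig⟩ := H.exists_invol hq (hcard ▸ hq2) og hU (hmem qI) (hmem qJ) hj2 hj
    have hg : g ∈ centralizer ({i} : Set G) := mem_centralizer_singleton_iff.2 hig.symm
    have h : q ∣ Nat.card ↥(centralizer ({i} : Set G)) := by
      rw [← og, ← Subgroup.orderOf_mk g hg]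
      exact orderOf_dvd_natCard _
    rcases cent_invol_cases hG hz hi with e | e <;> rw [e] at h
    exacts [hz1 h, hz2 h]

/-- A group isomorphic to the presented group has a frame. -/
theorem exists_frame_of_iso {K : Type*} [Group K] (e : K ≃* Cfsg.Spor.J4) :
    Nat.card K = 86775571046077562880 ∧ ∃ a b c : K, Frame a b c := by
  obtain ⟨a, b, c, F⟩ := exists_frame
  exact ⟨(Nat.card_congr e.toEquiv).trans J4Kp.card_eq, _, _, _, F.map (J4Kp.equivGJ.symm.trans e.symm)⟩

/-- The Sylow 11-subgroups. -/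
theorem sylow_eleven [IsSimpleGroup G] (hG : ¬ IsMulCommutative G) (hJ : IsOfJankoFourType G)
    (e : G ≃* Cfsg.Spor.J4) (U : Sylow 11 G) :
    Cfsg.IsExtraspecial 11 ↥(U : Subgroup G) ∧ Nat.card ↥(U : Subgroup G) = 11 ^ 3 ∧
      Monoid.exponent ↥(U : Subgroup G) = 11 ∧
      Nat.card ↥(normalizer ((U : Subgroup G) : Set G)) = 2 ^ 4 * 3 * 5 * 11 ^ 3 ∧
      ∃ K : Subgroup G, K ≤ normalizer ((U : Subgroup G) : Set G) ∧ Nonempty (↥K ≃* GL (Fin 2) (ZMod 3)) := by
  obtain ⟨hcard, a, b, c, F⟩ := exists_frame_of_iso e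
  obtain ⟨a', b', c', F', hU⟩ := F.exists_of_sylow (by rw [hcard]; norm_num) U
  rw [← hU]
  exact ⟨F'.heis.extraspecial_U, by rw [F'.heis.card_U]; norm_num, F'.heis.exponent_U,
    F'.normalizer_card hcard (no_fixed hG hJ hcard F')⟩

/-- The two classes of elements of order eleven. -/
theorem classes_eleven (e : G ≃* Cfsg.Spor.J4) :
    ∃ x y : G, orderOf x = 11 ∧ orderOf y = 11 ∧ ¬ IsConj x y ∧
      ∀ w : G, orderOf w = 11 → IsConj w x ∨ IsConj w y := by
  obtain ⟨hcard, a, b, c, F⟩ := exists_frame_of_iso e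
  exact F.two_classes (by rw [hcard]; norm_num)

end CfsgLib.J4Eleven
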