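import Cfsg.Agent.Lib.J4G.Fixed

/-!
Matrices over two elements: a bound on the rows fixed by a conjugate.
-/

set_option autoImplicit false
set_option maxRecDepth 100000

namespace CfsgLib.J4Eleven

open CfsgLib.J4G CfsgLib.J4P Matrix

theorem no_embed {n : ℕ} {F V g g' R : Matrix (Fin n) (Fin n) (ZMod 2)} (S : Finset (Fin n → ZMod 2))
    {u : Matrix (Fin n) (Fin n) (ZMod 2)} (hFu : F * u = F) (hV : V = g * u * g') (hgg : g' * g = 1)
    (hR : ∀ X : Matrix (Fin n) (Fin n) (ZMod 2), X * V = X → X * R = X) (hS0 : (0 : Fin n → ZMod 2) ∈ S)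
    (hSadd : ∀ p ∈ S, ∀ q ∈ S, p + q ∈ S) (hRS : ∀ i, R i ∈ S) {κ : Type*} [Fintype κ] (r : κ → Fin n)
    (hr : ∀ i j, F (r i) = F (r j) → i = j) : Fintype.card κ ≤ S.card := by
  classical
  have hXv : F * g' * V = F * g' := by
    rw [hV, Matrix.mul_assoc g, Matrix.mul_assoc F, ← Matrix.mul_assoc g', hgg, Matrix.one_mul,
      ← Matrix.mul_assoc, hFu]
  have hXrow : ∀ i, (F * g') i ∈ S := by
    intro i
    rw [← hR _ hXv]
    have : (F * g' * R) i = ∑ k, (F * g') i k • R k := by
      funext j; simp [Matrix.mul_apply, Finset.sum_apply]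
    rw [this]
    refine Finset.sum_induction _ (· ∈ S) (fun p q hp hq => hSadd p hp q hq) hS0 fun k _ => ?_
    rcases (show ∀ x : ZMod 2, x = 0 ∨ x = 1 by decide) ((F * g') i k) with e | e <;> rw [e]
    · rw [zero_smul]; exact hS0
    · rw [one_smul]; exact hRS k
  have hinj : Function.Injective fun i : κ => (⟨(F * g') (r i), hXrow _⟩ : S) := by
    intro i j e
    refine hr i j ?_
    have e' := Subtype.mk.inj e
    have hFX : F = F * g' * g := by rw [Matrix.mul_assoc, hgg, Matrix.mul_one]
    funext k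
    rw [hFX, Matrix.mul_apply, Matrix.mul_apply, e']
  have := Fintype.card_le_of_injective _ hinj
  rwa [Fintype.card_coe] at this

theorem span_four {M : Type*} [AddCommGroup M] [DecidableEq M] (h2 : ∀ w : M, w + w = 0) (r1 r2 : M) :
    ∀ p ∈ ({0, r1, r2, r1 + r2} : Finset M), ∀ q ∈ ({0, r1, r2, r1 + r2} : Finset M),
      p + q ∈ ({0, r1, r2, r1 + r2} : Finset M) := by
  intro p hp q hq
  have e1 : r1 + (r1 + r2) = r2 := by rw [← add_assoc, h2, zero_add]
  have e2 : r2 + (r1 + r2) = r1 := by rw [add_comm r1, ← add_assoc, h2, zero_add]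
  simp only [Finset.mem_insert, Finset.mem_singleton] at hp hq ⊢
  rcases hp with hp | hp | hp | hp <;> rcases hq with hq | hq | hq | hq <;>
    (rw [hp, hq]; simp [h2, e1, e2, add_comm (r1 + r2), add_comm r2 r1])

theorem rows_span {P : ℕ} (hP : goodP P = true) {x y : ℕ}
    (h : (rowsP P).all (fun r => Nat.beq r 0 || Nat.beq r x || Nat.beq r y || Nat.beq r (Nat.xor x y)) = true)
    (i : Fin 112) :
    toMatP P i ∈ ({0, fun j => bitZ (x.testBit j.val), fun j => bitZ (y.testBit j.val),
      (fun j => bitZ (x.testBit j.val)) + fun j => bitZ (y.testBit j.val)} : Finset Row) := by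
  simp only [List.all_eq_true, Bool.or_eq_true, Nat.beq_eq] at h
  rw [goodP, Nat.beq_eq] at hP
  have hlen : (rowsP P).length = 112 := by simp [rowsP]
  have h4 := h _ (List.getElem_mem (n := i.val) (by rw [hlen]; exact i.2))
  have he : toMatP P i = fun j : Fin 112 => bitZ (((rowsP P)[i.val]'(by rw [hlen]; exact i.2)).testBit j.val) := by
    funext j
    conv_lhs => rw [← hP, toMatP_packR (rowsP_ok _).2]
    simp only [toMatB, Matrix.of_apply]
    rw [List.getD_eq_getElem _ _ (by rw [hlen]; exact i.2)]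
  rw [he]
  simp only [Finset.mem_insert, Finset.mem_singleton]
  rcases h4 with ((h4 | h4) | h4) | h4 <;> rw [h4]
  · exact .inl (funext fun j => by simp [bitZ])
  · exact .inr (.inl rfl)
  · exact .inr (.inr (.inl rfl))
  · exact .inr (.inr (.inr (funext fun j => by
      show bitZ ((x ^^^ y).testBit j.val) = _
      rw [Nat.testBit_xor, bitZ_xor]; rfl)))

theorem rows_distinct {P : ℕ} (hP : goodP P = true) (h : ((rowsP P).take 5).Nodup) (i j : Fin 5)
    (e : toMatP P ⟨i.val, by omega⟩ = toMatP P ⟨j.val, by omega⟩) : i = j := by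
  have hlen : (rowsP P).length = 112 := by simp [rowsP]
  rw [goodP, Nat.beq_eq] at hP
  have hrow : (rowsP P).getD i.val 0 = (rowsP P).getD j.val 0 := by
    refine Nat.eq_of_testBit_eq fun k => ?_
    by_cases hk : k < 112
    · have ek := congrFun e ⟨k, hk⟩
      rw [← hP, toMatP_packR (rowsP_ok _).2] at ek
      simp only [toMatB, Matrix.of_apply] at ek
      revert ek
      cases ((rowsP P).getD i.val 0).testBit k <;> cases ((rowsP P).getD j.val 0).testBit k <;> simp [bitZ]
    · have hb : ∀ l, l < 112 → ((rowsP P).getD l 0).testBit k = false := fun l hl =>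
        Nat.testBit_eq_false_of_lt (lt_of_lt_of_le
          (by rw [List.getD_eq_getElem _ _ (hlen.symm ▸ hl)]; exact (rowsP_ok _).2 _ (List.getElem_mem _))
          (Nat.pow_le_pow_right (by norm_num) (by omega)))
      rw [hb _ (by omega), hb _ (by omega)]
  have h5 : ((rowsP P).take 5).length = 5 := by simp [hlen]
  refine Fin.ext ((h.getElem_inj_iff (hi := by rw [h5]; exact i.2) (hj := by rw [h5]; exact j.2)).1 ?_)
  rw [List.getElem_take, List.getElem_take]
  rwa [List.getD_eq_getElem _ _ (by omega), List.getD_eq_getElem _ _ (by omega)] at hrow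

theorem fixes_proj {P M : ℕ} (hP : goodP P = true) (hM : goodP M = true) {X : Matrix (Fin 112) (Fin 112) (ZMod 2)}
    (h : X * toMatP P = X) : X * toMatP (mP (P ^^^ idP) M ^^^ idP) = X := by
  have hadd : ∀ N : Matrix (Fin 112) (Fin 112) (ZMod 2), N + N = 0 := fun N => by
    ext i j
    simp only [Matrix.add_apply, Matrix.zero_apply]
    exact CharTwo.add_self_eq_zero _
  rw [toMatP_xor, (mP_spec (goodP_xor hP goodP_id)).2, toMatP_xor, toMatP_id, Matrix.mul_add, ← Matrix.mul_assoc,
    Matrix.mul_add, h, Matrix.mul_one, hadd, Matrix.zero_mul, zero_add]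

theorem no_conj {g u v : GL2} {A Cp Fp Mp x y : ℕ} (hu : Rep u A) (hv : Rep v Cp) (hgood : goodP Fp = true)
    (hfix : mP Fp A = Fp) (hnd : ((rowsP Fp).take 5).Nodup) (hMp : goodP Mp = true)
    (hrows : (rowsP (Nat.xor (mP (Nat.xor Cp idP) Mp) idP)).all
      (fun r => Nat.beq r 0 || Nat.beq r x || Nat.beq r y || Nat.beq r (Nat.xor x y)) = true)
    (h : g * u * g⁻¹ = v) : False := by
  have hFu : toMatP Fp * u.val = toMatP Fp := by rw [hu.2, ← (mP_spec hgood).2, hfix]
  obtain ⟨hg2, -⟩ := mP_spec (B := Mp) (goodP_xor hv.1 goodP_id)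
  have h5 := no_embed (V := v.val) (g := g.val) (g' := (g⁻¹ : GL2).val) _ hFu
    (by rw [← h, Units.val_mul, Units.val_mul]) (by rw [← Units.val_mul, inv_mul_cancel, Units.val_one])
    (fun X hX => fixes_proj hv.1 hMp (by rw [← hv.2]; exact hX))
    (Finset.mem_insert_self _ _) (span_four row_add_self _ _)
    (rows_span (goodP_xor hg2 goodP_id) hrows) (fun i : Fin 5 => ⟨i.val, by omega⟩) (rows_distinct hgood hnd)
  have h4 : ∀ p q r w : Row, ({p, q, r, w} : Finset Row).card ≤ 4 := fun p q r w => Finset.card_le_four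
  have := h5.trans (h4 _ _ _ _)
  rw [Fintype.card_fin] at this
  omega

end CfsgLib.J4Eleven
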