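import Cfsg.Agent.Lib.J4G.Gens
import Cfsg.Agent.Lib.J4Eleven.Rows
import Cfsg.Agent.Lib.J4Eleven.Checks
import Cfsg.Agent.Lib.J4Eleven.Abstract

/-!
The Sylow 11-subgroup of the matrix group with the elements normalizing it, from the packed checks.
-/

set_option autoImplicit false
set_option maxRecDepth 100000
set_option linter.unusedSectionVars false
set_option linter.style.haveILetI false
set_option maxHeartbeats 300000

namespace CfsgLib.J4Eleven

open CfsgLib.J4G CfsgLib.J4P Matrix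

/-- The exponents of an entry of the table. -/
def tri (l : List ℕ) : ℕ × ℕ × ℕ := (l.getD 0 0, l.getD 1 0, l.getD 2 0)

/-- The exponents of the image of the `r`-th generator under the `i`-th element. -/
def imE (i r : ℕ) : ℕ × ℕ × ℕ := tri ((imT.getD i []).getD r [])

/-- The data in a group. -/
structure Frame {G : Type*} [Group G] (a b c : G) : Prop where
  heis : Heis a b c
  act : ∀ i, i < 3 → ∃ n : G, n * a * n⁻¹ = mon a b c (imE i 0) ∧ n * b * n⁻¹ = mon a b c (imE i 1) ∧
    n * c * n⁻¹ = mon a b c (imE i 2)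
  gl : ∃ ι : GL (Fin 2) (ZMod 3) →* G, Function.Injective ι ∧ ∀ A, ∀ u ∈ ({a, b, c} : Set G),
    ι A * u * (ι A)⁻¹ ∈ heis.U
  five : ∃ w : G, orderOf w = 5 ∧ ∀ u ∈ ({a, b, c} : Set G), w * u * w⁻¹ ∈ heis.U
  not_conj : ¬ IsConj a c

/-- The code of a matrix of degree two over three elements. -/
def code2 (A : GL (Fin 2) (ZMod 3)) : ℕ :=
  27 * (A.val 0 0).val + 9 * (A.val 0 1).val + 3 * (A.val 1 0).val + (A.val 1 1).val

theorem mulC_table : ∀ a b c d a' b' c' d' : ZMod 3,
    mulC (27 * a.val + 9 * b.val + 3 * c.val + d.val) (27 * a'.val + 9 * b'.val + 3 * c'.val + d'.val) =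
      27 * (a * a' + b * c').val + 9 * (a * b' + b * d').val + 3 * (c * a' + d * c').val + (c * b' + d * d').val := by
  decide +kernel

theorem code2_mul (A B : GL (Fin 2) (ZMod 3)) : code2 (A * B) = mulC (code2 A) (code2 B) := by
  simp only [code2, Units.val_mul, Matrix.mul_apply, Fin.sum_univ_two, mulC_table]

theorem code2_inj_table : ∀ a b c d a' b' c' d' : ZMod 3,
    27 * a.val + 9 * b.val + 3 * c.val + d.val = 27 * a'.val + 9 * b'.val + 3 * c'.val + d'.val →
      a = a' ∧ b = b' ∧ c = c' ∧ d = d' := by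
  decide +kernel

theorem code2_inj {A B : GL (Fin 2) (ZMod 3)} (h : code2 A = code2 B) : A = B := by
  obtain ⟨h1, h2, h3, h4⟩ := code2_inj_table _ _ _ _ _ _ _ _ h
  refine Units.ext (Matrix.ext fun i j => ?_)
  fin_cases i <;> fin_cases j <;> assumption

theorem code_table : ∀ a b c d : ZMod 3, a * d - b * c ≠ 0 →
    (glT.map Prod.fst).contains (27 * a.val + 9 * b.val + 3 * c.val + d.val) = true := by
  decide +kernel

theorem word_table :
    ((glT.map Prod.fst).all fun s => Nat.beq ((glW s).foldl (fun u i => mulC u ([39, 29].getD i 28)) 28) s) = true := by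
  decide +kernel

theorem code2_mem (A : GL (Fin 2) (ZMod 3)) : code2 A ∈ glT.map Prod.fst := by
  have hd : A.val.det ≠ 0 := (Matrix.GeneralLinearGroup.det A).ne_zero
  rw [Matrix.det_fin_two] at hd
  exact List.contains_iff_mem.1 (code_table _ _ _ _ hd)

/-- The first generator of the linear group. -/
def s8 : GL (Fin 2) (ZMod 3) := ⟨!![1, 1; 1, 0], !![0, 1; 1, 2], by decide, by decide⟩

/-- The second generator of the linear group. -/
def t2 : GL (Fin 2) (ZMod 3) := ⟨!![1, 0; 0, 2], !![1, 0; 0, 2], by decide, by decide⟩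

theorem code_gens : code2 1 = 28 ∧ code2 s8 = 39 ∧ code2 t2 = 29 := by decide +kernel

theorem gen_induction {P : GL (Fin 2) (ZMod 3) → Prop} (h1 : P 1) (hs : ∀ A, P A → P (A * s8))
    (ht : ∀ A, P A → P (A * t2)) (A : GL (Fin 2) (ZMod 3)) : P A := by
  have key : ∀ (w : List ℕ) (B : GL (Fin 2) (ZMod 3)), P B → ∀ C : GL (Fin 2) (ZMod 3),
      w.foldl (fun u i => mulC u ([39, 29].getD i 28)) (code2 B) = code2 C → P C := by
    intro w
    induction w with
    | nil => intro B hB C h; exact code2_inj h ▸ hB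
    | cons i w ih =>
      intro B hB C h
      rw [List.foldl_cons] at h
      rcases i with _ | _ | i
      · refine ih _ (hs B hB) C ?_
        rw [code2_mul, code_gens.2.1]; exact h
      · refine ih _ (ht B hB) C ?_
        rw [code2_mul, code_gens.2.2]; exact h
      · refine ih (B * 1) (by rwa [mul_one]) C ?_
        rw [code2_mul, code_gens.1]; simpa using h
  have h := List.all_eq_true.1 word_table _ (code2_mem A)
  rw [Nat.beq_eq] at h
  exact key (glW (code2 A)) 1 h1 A (by rw [code_gens.1]; exact h)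

theorem rep_foldl {g : GL2} {P : ℕ} {l : List GL2} {env : List ℕ} (henv : ∀ i, Rep (l.getD i 1) (env.getD i idP)) :
    ∀ (w : List ℕ), Rep g P → Rep (g * (w.map fun i => l.getD i 1).prod) (w.foldl (fun u i => mP u (env.getD i idP)) P) := by
  intro w
  induction w generalizing g P with
  | nil => intro h; simpa using h
  | cons i w ih =>
    intro h
    rw [List.map_cons, List.prod_cons, ← mul_assoc, List.foldl_cons]
    exact ih (h.mul (henv i))

theorem conj_fixed_rows {g u v : GL2} (hu : Rep u aP) (hv : Rep v cP) (h : g * u * g⁻¹ = v) : False := by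
  have hA := fix_a_checks
  simp only [Bool.and_eq_true, Nat.beq_eq, decide_eq_true_eq] at hA
  have hC := fix_c_checks
  rw [Bool.and_eq_true] at hC
  exact no_conj hu hv hA.1.1 hA.1.2 hA.2 hC.1 hC.2 h

theorem rep_abc : ∃ a b c : GL2, a ∈ gJ ∧ b ∈ gJ ∧ c ∈ gJ ∧ Rep a aP ∧ Rep b bP ∧ Rep c cP ∧
    a ^ 11 = 1 ∧ b ^ 11 = 1 ∧ c ^ 11 = 1 ∧ c ≠ 1 ∧ b * a * c = a * b ∧ a * c = c * a ∧ b * c = c * b := by
  obtain ⟨a, ha, ra⟩ := InS.evalP envA_mem aW
  obtain ⟨b, hb, rb⟩ := InS.evalP envA_mem bW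
  have rc := ((ra.pow 10).mul (rb.pow 10)).mul (ra.mul rb)
  have h := eleven_checks
  simp only [Bool.and_eq_true, Bool.not_eq_true', Nat.beq_eq] at h
  obtain ⟨⟨⟨⟨⟨⟨ha11, hb11⟩, hc11⟩, hc1⟩, hbac⟩, hac⟩, hbc⟩ := h
  refine ⟨a, b, _, ha, hb, mul_mem (mul_mem (pow_mem ha 10) (pow_mem hb 10)) (mul_mem ha hb), ra, rb, rc,
    (ra.pow 11).eq rep_one ha11, (rb.pow 11).eq rep_one hb11, (rc.pow 11).eq rep_one hc11,
    rc.ne rep_one fun e => ?_, ((rb.mul ra).mul rc).eq (ra.mul rb) hbac, (ra.mul rc).eq (rc.mul ra) hac,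
    (rb.mul rc).eq (rc.mul rb) hbc⟩
  simp [e] at hc1

theorem rep_words : ∃ xw yw fw : GL2, xw ∈ gJ ∧ yw ∈ gJ ∧ fw ∈ gJ ∧ Rep fw fP ∧
    (∀ m : GL2, Rep m (monP [9, 4, 3]) → Rep (m * xw) xP) ∧ (∀ m : GL2, Rep m (monP [0, 9, 7]) → Rep (m * yw) yP) := by
  obtain ⟨xw, hxw, rxw⟩ := InS.evalP envA_mem xW
  obtain ⟨yw, hyw, ryw⟩ := InS.evalP envA_mem yW
  obtain ⟨fw, hfw, rfw⟩ := InS.evalP envA_mem CfsgLib.J4Eleven.fW
  exact ⟨xw, yw, fw, hxw, hyw, hfw, rfw, fun m h => h.mul rxw, fun m h => h.mul ryw⟩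

theorem imE_list : ∀ i r : Fin 3,
    [(imE i.val r.val).1, (imE i.val r.val).2.1, (imE i.val r.val).2.2] = (imT.getD i.val []).getD r.val [] := by
  decide +kernel

theorem coe_prod_getD {G : Type*} [Group G] {K : Subgroup G} (u v : K) (w : List ℕ) :
    ((w.map fun i => [u, v].getD i 1).prod : K).1 = (w.map fun i => [u.1, v.1].getD i 1).prod := by
  induction w with
  | nil => rfl
  | cons i w ih =>
    rw [List.map_cons, List.map_cons, List.prod_cons, List.prod_cons, Subgroup.coe_mul, ih]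
    rcases i with _ | _ | i <;> rfl

theorem getD_two {α β : Type*} (Q : α → β → Prop) {a b c : α} {a' b' c' : β} (ha : Q a a') (hb : Q b b')
    (hc : Q c c') : ∀ i, Q ([a, b].getD i c) ([a', b'].getD i c') := by
  intro i
  rcases i with _ | _ | i
  exacts [ha, hb, hc]

theorem monP_eq (t : ℕ × ℕ × ℕ) : monP [t.1, t.2.1, t.2.2] =
    mP (mP (powP aP t.1) (powP bP t.2.1)) (powP cP t.2.2) := rfl

theorem glP_eq (s : ℕ) : glP s = (glW s).foldl (fun u i => mP u ([xP, yP].getD i idP)) idP := rfl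

attribute [local irreducible] aP bP cP xP yP fP monP glP evalP powP mP idP goodP CfsgLib.J4G.Rep toMatP imE

/-- The matrix group has the data. -/
theorem exists_frame : ∃ a b c : gJ, Frame a b c := by
  obtain ⟨a, b, c, ha, hb, hc, ra, rb, rc, a11, b11, c11, c1, ebac, eac, ebc⟩ := rep_abc
  let A : gJ := ⟨a, ha⟩
  let B : gJ := ⟨b, hb⟩
  let Cc : gJ := ⟨c, hc⟩
  have H : Heis A B Cc :=
    ⟨Subtype.ext a11, Subtype.ext b11, Subtype.ext c11, fun e => c1 (Subtype.ext_iff.1 e), Subtype.ext ebac,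
      Subtype.ext eac, Subtype.ext ebc⟩
  have rmon : ∀ t : ℕ × ℕ × ℕ, Rep (mon A B Cc t : gJ).1 (monP [t.1, t.2.1, t.2.2]) := fun t => by
    rw [monP_eq]
    exact ((ra.pow t.1).mul (rb.pow t.2.1)).mul (rc.pow t.2.2)
  obtain ⟨xw, yw, fw, hxw, hyw, hfw, rfw, hx, hy⟩ := rep_words
  let x : gJ := mon A B Cc (9, 4, 3) * ⟨xw, hxw⟩
  let y : gJ := mon A B Cc (0, 9, 7) * ⟨yw, hyw⟩
  let f : gJ := ⟨fw, hfw⟩
  have rx : Rep x.1 xP := hx _ (rmon (9, 4, 3))
  have ry : Rep y.1 yP := hy _ (rmon (0, 9, 7))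
  have hact : ∀ i, i < 3 → [x, y, f].getD i 1 * A * ([x, y, f].getD i 1)⁻¹ = mon A B Cc (imE i 0) ∧
      [x, y, f].getD i 1 * B * ([x, y, f].getD i 1)⁻¹ = mon A B Cc (imE i 1) ∧
      [x, y, f].getD i 1 * Cc * ([x, y, f].getD i 1)⁻¹ = mon A B Cc (imE i 2) := by
    intro i hi
    have hn : Rep ([x, y, f].getD i 1).1 (nP.getD i 0) := by
      interval_cases i <;> simp only [nP, List.getD_cons_succ, List.getD_cons_zero]
      exacts [rx, ry, rfw]
    have him := im_checks
    simp only [List.all_eq_true, List.mem_range] at him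
    have key : ∀ r, r < 3 → ∀ (U : gJ), Rep U.1 ([aP, bP, cP].getD r 0) →
        monP [(imE i r).1, (imE i r).2.1, (imE i r).2.2] = monP ((imT.getD i []).getD r []) →
        [x, y, f].getD i 1 * U * ([x, y, f].getD i 1)⁻¹ = mon A B Cc (imE i r) := by
      intro r hr U hU hm
      refine mul_inv_eq_iff_eq_mul.2 (Subtype.ext ?_)
      refine (hn.mul hU).eq ((rmon (imE i r)).mul hn) ?_
      rw [hm]
      exact Nat.eq_of_beq_eq_true (him i hi r hr)
    refine ⟨key 0 (by norm_num) A ra ?_, key 1 (by norm_num) B rb ?_, key 2 (by norm_num) Cc rc ?_⟩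
    · exact congrArg monP (imE_list ⟨i, hi⟩ 0)
    · exact congrArg monP (imE_list ⟨i, hi⟩ 1)
    · exact congrArg monP (imE_list ⟨i, hi⟩ 2)
  have hN : ∀ i, i < 3 → [x, y, f].getD i 1 ∈ Subgroup.normalizer (H.U : Set gJ) := fun i hi => by
    haveI : Finite gJ := inferInstance
    obtain ⟨h1, h2, h3⟩ := hact i hi
    exact H.conj_mem (H.mem_U.2 ⟨_, h1.symm⟩) (H.mem_U.2 ⟨_, h2.symm⟩) (H.mem_U.2 ⟨_, h3.symm⟩)
  -- the linear group
  let el : GL (Fin 2) (ZMod 3) → gJ := fun M => ((glW (code2 M)).map fun i => [x, y].getD i 1).prod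
  have rel : ∀ M, Rep (el M).1 (glP (code2 M)) := by
    intro M
    have henv : ∀ i, J4G.Rep (([x.1, y.1] : List GL2).getD i 1) ([xP, yP].getD i idP) :=
      getD_two J4G.Rep rx ry rep_one
    have := rep_foldl henv (glW (code2 M)) rep_one
    rw [one_mul] at this
    have he : (el M).1 = ((glW (code2 M)).map fun i => ([x.1, y.1] : List GL2).getD i 1).prod :=
      coe_prod_getD x y _
    rw [he, glP_eq]
    exact this
  have hone : el 1 = 1 := Subtype.ext ((rel 1).eq rep_one (by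
    rw [code_gens.1]; exact Nat.eq_of_beq_eq_true gl_inj.1))
  have hgen : ∀ M, el (M * s8) = el M * x ∧ el (M * t2) = el M * y := by
    intro M
    have h := List.all_eq_true.1 gl_checks _ (code2_mem M)
    simp only [Bool.and_eq_true, Nat.beq_eq] at h
    constructor
    · refine Subtype.ext ((rel _).eq ((rel M).mul rx) ?_)
      rw [code2_mul, code_gens.2.1]; exact h.1
    · refine Subtype.ext ((rel _).eq ((rel M).mul ry) ?_)
      rw [code2_mul, code_gens.2.2]; exact h.2
  have hmul : ∀ M M', el (M * M') = el M * el M' := fun M M' =>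
    gen_induction (P := fun M' => ∀ M, el (M * M') = el M * el M') (fun M => by rw [mul_one, hone, mul_one])
      (fun M' ih M => by rw [← mul_assoc, (hgen _).1, ih, (hgen _).1, mul_assoc])
      (fun M' ih M => by rw [← mul_assoc, (hgen _).2, ih, (hgen _).2, mul_assoc]) M' M
  let ι : GL (Fin 2) (ZMod 3) →* gJ := MonoidHom.mk' el hmul
  have hι : ∀ M, el M ∈ Subgroup.normalizer (H.U : Set gJ) := fun M =>
    gen_induction (P := fun M => el M ∈ Subgroup.normalizer (H.U : Set gJ)) (hone ▸ one_mem _)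
      (fun M ih => (hgen M).1 ▸ mul_mem ih (hN 0 (by norm_num)))
      (fun M ih => (hgen M).2 ▸ mul_mem ih (hN 1 (by norm_num))) M
  have hUabc : ∀ u ∈ ({A, B, Cc} : Set gJ), u ∈ H.U := by
    rintro u (rfl | rfl | rfl)
    exacts [H.a_mem, H.b_mem, H.c_mem]
  refine ⟨A, B, Cc, ⟨H, fun i hi => ⟨_, hact i hi⟩, ⟨ι, ?_, fun M u hu => H.norm_mem (hι M) (hUabc u hu)⟩,
    ⟨f * f, ?_, fun u hu => H.norm_mem (mul_mem (hN 2 (by norm_num)) (hN 2 (by norm_num))) (hUabc u hu)⟩, ?_⟩⟩
  · rw [injective_iff_map_eq_one]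
    intro M hM
    have h := List.all_eq_true.1 gl_inj.2 _ (code2_mem M)
    simp only [Bool.or_eq_true, Nat.beq_eq, Bool.not_eq_true'] at h
    rcases h with h | h
    · exact code2_inj (h.trans code_gens.1.symm)
    · exfalso
      have hM' : (el M).1 = 1 := congrArg Subtype.val hM
      have e := (rel M).value_eq (show J4G.Rep (el M).1 idP by rw [hM']; exact rep_one)
      rw [e, Nat.beq_refl] at h
      exact absurd h (by decide)
  · haveI : Fact (Nat.Prime 5) := ⟨by norm_num⟩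
    have r2 : Rep (f * f).1 (powP fP 2) := by
      have := rfw.pow 2
      rw [pow_two] at this
      exact this
    have h := five_checks
    simp only [Bool.and_eq_true, Bool.not_eq_true', Nat.beq_eq] at h
    refine orderOf_eq_prime (Subtype.ext ((r2.pow 5).eq rep_one h.1)) fun e => ?_
    have e' : (f * f).1 = 1 := congrArg Subtype.val e
    have e'' := r2.value_eq (show J4G.Rep (f * f).1 idP by rw [e']; exact rep_one)
    rw [e'', Nat.beq_refl] at h
    exact absurd h.2 (by decide)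
  · intro hcj
    obtain ⟨g, hg⟩ := isConj_iff.1 hcj
    have h1 := congrArg Subtype.val hg
    rw [Subgroup.coe_mul, Subgroup.coe_mul, Subgroup.coe_inv] at h1
    exact conj_fixed_rows ra rc h1

end CfsgLib.J4Eleven
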