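import Cfsg.Agent.Lib.J4Eleven.Matrices

/-!
The frame under isomorphisms, its subgroup as a Sylow subgroup, and the classes of elements of order eleven.
-/

set_option autoImplicit false
set_option linter.unusedSectionVars false
set_option linter.style.haveILetI false

namespace CfsgLib.J4Eleven

open Subgroup Pointwise

theorem mon_map {G K : Type*} [Group G] [Group K] (f : G →* K) (a b c : G) (t : ℕ × ℕ × ℕ) :
    f (mon a b c t) = mon (f a) (f b) (f c) t := by
  simp only [mon, map_mul, map_pow]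

theorem Heis.map {G K : Type*} [Group G] [Group K] {a b c : G} (H : Heis a b c) (e : G ≃* K) :
    Heis (e a) (e b) (e c) where
  a11 := by rw [← map_pow, H.a11, map_one]
  b11 := by rw [← map_pow, H.b11, map_one]
  c11 := by rw [← map_pow, H.c11, map_one]
  c1 := fun h => H.c1 ((map_eq_one_iff e e.injective).1 h)
  bac := by rw [← map_mul, ← map_mul, H.bac, map_mul]
  ac := by rw [← map_mul, H.ac, map_mul]
  bc := by rw [← map_mul, H.bc, map_mul]

theorem Heis.U_map {G K : Type*} [Group G] [Group K] {a b c : G} (H : Heis a b c) (e : G ≃* K) :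
    (H.map e).U = H.U.map e.toMonoidHom := by
  ext g
  rw [(H.map e).mem_U, mem_map]
  constructor
  · rintro ⟨t, rfl⟩
    exact ⟨mon a b c t, H.mem_U.2 ⟨t, rfl⟩, mon_map e.toMonoidHom a b c t⟩
  · rintro ⟨u, ⟨t, rfl⟩, rfl⟩
    exact ⟨t, (mon_map e.toMonoidHom a b c t).symm⟩

theorem Frame.map {G K : Type*} [Group G] [Group K] {a b c : G} (F : Frame a b c) (e : G ≃* K) :
    Frame (e a) (e b) (e c) where
  heis := F.heis.map e
  act i hi := by
    obtain ⟨n, h1, h2, h3⟩ := F.act i hi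
    have key : ∀ x y : G, n * x * n⁻¹ = y → e n * e x * (e n)⁻¹ = e y := by
      intro x y h
      rw [← h, map_mul, map_mul, map_inv]
    exact ⟨e n, (key _ _ h1).trans (mon_map e.toMonoidHom a b c _),
      (key _ _ h2).trans (mon_map e.toMonoidHom a b c _), (key _ _ h3).trans (mon_map e.toMonoidHom a b c _)⟩
  gl := by
    obtain ⟨ι, hι, hm⟩ := F.gl
    refine ⟨e.toMonoidHom.comp ι, e.injective.comp hι, fun A u hu => ?_⟩
    rw [F.heis.U_map e, mem_map]
    have hu' : ∃ u' ∈ ({a, b, c} : Set G), e u' = u := by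
      rcases hu with rfl | rfl | rfl
      exacts [⟨a, by simp, rfl⟩, ⟨b, by simp, rfl⟩, ⟨c, by simp, rfl⟩]
    obtain ⟨u', hu', rfl⟩ := hu'
    exact ⟨_, hm A u' hu', by simp⟩
  five := by
    obtain ⟨w, hw, hm⟩ := F.five
    refine ⟨e w, by rw [← hw]; exact orderOf_injective e.toMonoidHom e.injective w, fun u hu => ?_⟩
    rw [F.heis.U_map e, mem_map]
    have hu' : ∃ u' ∈ ({a, b, c} : Set G), e u' = u := by
      rcases hu with rfl | rfl | rfl
      exacts [⟨a, by simp, rfl⟩, ⟨b, by simp, rfl⟩, ⟨c, by simp, rfl⟩]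
    obtain ⟨u', hu', rfl⟩ := hu'
    exact ⟨_, hm u' hu', by simp⟩
  not_conj h := by
    refine F.not_conj ?_
    have h' := MonoidHom.map_isConj e.symm.toMonoidHom h
    simpa using h'

variable {G : Type*} [Group G] [Finite G] {a b c : G}

/-- The subgroup of the frame is a Sylow subgroup. -/
theorem Heis.exists_sylow (H : Heis a b c) (h11 : ¬ 11 ^ 4 ∣ Nat.card G) :
    ∃ S : Sylow 11 G, (S : Subgroup G) = H.U := by
  haveI : Fact (Nat.Prime 11) := ⟨by norm_num⟩
  obtain ⟨S, hS⟩ := (IsPGroup.of_card (n := 3) (by rw [H.card_U]; norm_num) : IsPGroup 11 H.U).exists_le_sylow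
  refine ⟨S, (eq_of_le_of_card_ge hS ?_).symm⟩
  obtain ⟨n, hn⟩ := IsPGroup.iff_card.1 S.2
  rw [hn, H.card_U]
  have hn3 : n ≤ 3 := by
    by_contra hlt
    exact h11 ((pow_dvd_pow 11 (show 4 ≤ n by omega)).trans (hn ▸ card_subgroup_dvd_card (S : Subgroup G)))
  exact (Nat.pow_le_pow_right (by norm_num) hn3).trans (by norm_num)

/-- Every Sylow subgroup belongs to a frame. -/
theorem Frame.exists_of_sylow (F : Frame a b c) (h11 : ¬ 11 ^ 4 ∣ Nat.card G) (U : Sylow 11 G) :
    ∃ (a' b' c' : G) (F' : Frame a' b' c'), F'.heis.U = (U : Subgroup G) := by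
  haveI : Fact (Nat.Prime 11) := ⟨by norm_num⟩
  obtain ⟨S, hS⟩ := F.heis.exists_sylow h11
  obtain ⟨g, hg⟩ := MulAction.exists_smul_eq G S U
  refine ⟨_, _, _, F.map (MulAut.conj g), ?_⟩
  rw [F.heis.U_map, ← hS, ← hg, Sylow.coe_subgroup_smul]
  rfl

/-- The code of the image of the exponents with code `s` under the `i`-th map. -/
def stepC (i s : ℕ) : ℕ :=
  11 * ((s / 11 * (imE i 0).1 + s % 11 * (imE i 1).1) % 11) +
    (s / 11 * (imE i 0).2.1 + s % 11 * (imE i 1).2.1) % 11

/-- One round of the closure. -/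
def grow (L : List ℕ) : List ℕ :=
  (List.range 121).filter fun s => L.contains s || (List.range 3).any fun i => L.contains (stepC i s)

/-- The closure of the code of the first generator. -/
def closureC : ℕ → List ℕ
  | 0 => [11]
  | n + 1 => grow (closureC n)

theorem closure_table : ((List.range 120).all fun s => (closureC 12).contains (s + 1)) = true := by
  decide +kernel

theorem gens_table : (imE 0 2 == (0, 0, 10) && imE 2 2 == (0, 0, 9)) = true := by decide +kernel

theorem power_table : ∀ k : Fin 10, ∃ e1 : Fin 2, ∃ e2 : Fin 5, (10 : ℕ) ^ (e1 : ℕ) * 9 ^ (e2 : ℕ) % 11 = (k : ℕ) + 1 := by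
  decide +kernel

/-- Conjugate to the first generator with these exponents of `a` and `b`, whatever the exponent of `c`. -/
def Fuses (a b c : G) (s : ℕ) : Prop :=
  ∀ k : ℕ, IsConj (mon a b c (s / 11, s % 11, k)) a

theorem Frame.fuses_step (F : Frame a b c) {i s : ℕ} (hi : i < 3) (h : Fuses a b c (stepC i s)) : Fuses a b c s := by
  intro k
  obtain ⟨n, h1, h2, h3⟩ := F.act i hi
  have H := F.heis
  have hn : n ∈ normalizer (H.U : Set G) :=
    H.conj_mem (H.mem_U.2 ⟨_, h1.symm⟩) (H.mem_U.2 ⟨_, h2.symm⟩) (H.mem_U.2 ⟨_, h3.symm⟩)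
  obtain ⟨⟨x, y, z⟩, ht⟩ := H.mem_U.1 (H.norm_mem hn (H.mem_U.2 ⟨(s / 11, s % 11, k), rfl⟩))
  have hp := H.pr_conj hn (s / 11, s % 11, k)
  rw [← ht, h1, h2, H.pr_mon, H.pr_mon, H.pr_mon] at hp
  have p0 := congrFun hp 0
  have p1 := congrFun hp 1
  simp only [Matrix.cons_val_zero, Matrix.cons_val_one, Matrix.cons_val_fin_one, Pi.add_apply, Pi.smul_apply,
    smul_eq_mul] at p0 p1
  have hlt : ∀ x : ℕ, (x % 11 : ℕ) < 11 := fun x => Nat.mod_lt x (by norm_num)
  have e : mon a b c (x, y, z) = mon a b c (stepC i s / 11, stepC i s % 11, z) := by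
    refine H.mon_eq ?_ ?_ rfl
    · have e0 : stepC i s / 11 = (s / 11 * (imE i 0).1 + s % 11 * (imE i 1).1) % 11 := by
        rw [stepC, Nat.mul_add_div (by norm_num), Nat.div_eq_of_lt (hlt _), add_zero]
      show (x : ZMod 11) = ((stepC i s / 11 : ℕ) : ZMod 11)
      refine p0.trans ?_
      simp only [← Nat.cast_mul, ← Nat.cast_add]
      rw [e0]
      exact (ZMod.natCast_mod _ 11).symm
    · have e1 : stepC i s % 11 = (s / 11 * (imE i 0).2.1 + s % 11 * (imE i 1).2.1) % 11 := by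
        rw [stepC, Nat.mul_add_mod, Nat.mod_mod]
      show (y : ZMod 11) = ((stepC i s % 11 : ℕ) : ZMod 11)
      refine p1.trans ?_
      simp only [← Nat.cast_mul, ← Nat.cast_add]
      rw [e1]
      exact (ZMod.natCast_mod _ 11).symm
  exact (isConj_iff.2 ⟨n, (ht.symm.trans e)⟩).trans (h z)

theorem Heis.fuses_base (H : Heis a b c) : Fuses a b c 11 := by
  intro k
  refine isConj_iff.2 ⟨mon a b c (0, k, 0), mul_inv_eq_iff_eq_mul.2 ?_⟩
  have ea : mon a b c (1, 0, 0) = a := by simp [mon]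
  show mon a b c (0, k, 0) * mon a b c (1, 0, k) = a * mon a b c (0, k, 0)
  conv_rhs => arg 1; rw [← ea]
  rw [H.mon_mul, H.mon_mul]
  have h11 : (11 : ZMod 11) = 0 := rfl
  refine H.mon_eq ?_ ?_ ?_ <;> push_cast
  · ring
  · ring
  · linear_combination (k : ZMod 11) * h11

theorem Frame.fuses_closure (F : Frame a b c) : ∀ n : ℕ, ∀ s ∈ closureC n, Fuses a b c s
  | 0, s, hs => by
    rw [closureC, List.mem_singleton] at hs
    exact hs ▸ F.heis.fuses_base
  | n + 1, s, hs => by
    rw [closureC, grow, List.mem_filter, Bool.or_eq_true, List.any_eq_true] at hs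
    rcases hs.2 with h | ⟨i, hi, h⟩
    · exact F.fuses_closure n s (List.contains_iff_mem.1 h)
    · exact F.fuses_step (List.mem_range.1 hi) (F.fuses_closure n _ (List.contains_iff_mem.1 h))

theorem Frame.conj_pow_c (F : Frame a b c) : ∀ e1 e2 : ℕ, IsConj c (c ^ (10 ^ e1 * 9 ^ e2)) := by
  have hg := gens_table
  rw [Bool.and_eq_true, beq_iff_eq, beq_iff_eq] at hg
  have hr : ∀ i r : ℕ, i < 3 → imE i 2 = (0, 0, r) → ∀ k : ℕ, IsConj (c ^ k) (c ^ (r * k)) := by
    intro i r hi he k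
    obtain ⟨n, -, -, h3⟩ := F.act i hi
    rw [he] at h3
    refine isConj_iff.2 ⟨n, ?_⟩
    rw [← conj_pow, h3, pow_mul]
    simp [mon]
  intro e1
  induction e1 with
  | zero =>
    intro e2
    induction e2 with
    | zero =>
      rw [pow_zero, pow_zero, mul_one, pow_one]
    | succ e2 ih =>
      refine ih.trans ?_
      have := hr 2 9 (by norm_num) hg.2 (10 ^ 0 * 9 ^ e2)
      rwa [show 10 ^ 0 * 9 ^ (e2 + 1) = 9 * (10 ^ 0 * 9 ^ e2) by ring]
  | succ e1 ih =>
    intro e2
    refine (ih e2).trans ?_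
    have := hr 0 10 (by norm_num) hg.1 (10 ^ e1 * 9 ^ e2)
    rwa [show 10 ^ (e1 + 1) * 9 ^ e2 = 10 * (10 ^ e1 * 9 ^ e2) by ring]

/-- Two classes in the subgroup of the frame. -/
theorem Frame.isConj_of_mem (F : Frame a b c) {u : G} (hu : u ∈ F.heis.U) (h1 : u ≠ 1) :
    IsConj u a ∨ IsConj u c := by
  have H := F.heis
  obtain ⟨⟨i, j, k⟩, rfl⟩ := H.mem_U.1 hu
  have hij : mon a b c (i, j, k) = mon a b c (i % 11, j % 11, k % 11) :=
    H.mon_eq (by simp) (by simp) (by simp)
  rw [hij] at h1 ⊢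
  by_cases h0 : i % 11 = 0 ∧ j % 11 = 0
  · right
    rw [h0.1, h0.2] at h1 ⊢
    have hc : mon a b c (0, 0, k % 11) = c ^ (k % 11) := by simp [mon]
    rw [hc] at h1 ⊢
    have hk : k % 11 ≠ 0 := fun e => h1 (by rw [e, pow_zero])
    obtain ⟨e1, e2, he⟩ := power_table ⟨k % 11 - 1, by omega⟩
    have he' : 10 ^ (e1 : ℕ) * 9 ^ (e2 : ℕ) % 11 = k % 11 := by
      refine he.trans ?_
      show k % 11 - 1 + 1 = k % 11
      omega
    refine IsConj.trans (b := c ^ (10 ^ (e1 : ℕ) * 9 ^ (e2 : ℕ))) ?_ (F.conj_pow_c e1 e2).symm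
    rw [← he', ← pow_eq_pow_mod _ H.c11]
  · left
    have hs : 11 * (i % 11) + j % 11 - 1 < 120 := by omega
    have h := List.all_eq_true.1 closure_table _ (List.mem_range.2 hs)
    have e : 11 * (i % 11) + j % 11 - 1 + 1 = 11 * (i % 11) + j % 11 := by omega
    rw [e] at h
    have hf := F.fuses_closure 12 _ (List.contains_iff_mem.1 h) (k % 11)
    rwa [show (11 * (i % 11) + j % 11) / 11 = i % 11 by omega,
      show (11 * (i % 11) + j % 11) % 11 = j % 11 by omega] at hf

/-- There are two classes of elements of order eleven. -/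
theorem Frame.two_classes (F : Frame a b c) (h11 : ¬ 11 ^ 4 ∣ Nat.card G) :
    ∃ x y : G, orderOf x = 11 ∧ orderOf y = 11 ∧ ¬ IsConj x y ∧ ∀ w : G, orderOf w = 11 → IsConj w x ∨ IsConj w y := by
  haveI : Fact (Nat.Prime 11) := ⟨by norm_num⟩
  refine ⟨a, c, orderOf_eq_prime F.heis.a11 fun e => F.heis.c1 ?_, F.heis.orderOf_c, F.not_conj, fun w hw => ?_⟩
  · have h := F.heis.bac
    rw [e, mul_one, one_mul] at h
    exact mul_left_cancel (h.trans (mul_one b).symm)
  · obtain ⟨S, hS⟩ := F.heis.exists_sylow h11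
    obtain ⟨R, hR⟩ := (IsPGroup.of_card (n := 1) (by rw [Nat.card_zpowers, hw, pow_one]) :
      IsPGroup 11 (zpowers w)).exists_le_sylow
    obtain ⟨g, hg⟩ := MulAction.exists_smul_eq G R S
    have hm : MulAut.conj g • w ∈ (MulAut.conj g • (R : Subgroup G)) :=
      smul_mem_pointwise_smul w (MulAut.conj g) _ (hR (mem_zpowers w))
    have hRS : (MulAut.conj g • (R : Subgroup G)) = F.heis.U := by
      rw [← Sylow.coe_subgroup_smul, hg, hS]
    rw [hRS, MulAut.smul_def, MulAut.conj_apply] at hm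
    have hne : g * w * g⁻¹ ≠ 1 := fun e => by
      rw [conj_eq_one_iff.1 e, orderOf_one] at hw
      exact absurd hw (by norm_num)
    have hc : IsConj w (g * w * g⁻¹) := isConj_iff.2 ⟨g, rfl⟩
    exact (F.isConj_of_mem hm hne).imp hc.trans hc.trans

end CfsgLib.J4Eleven
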